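import Cfsg.Agent.Lib.T3.Hlp

/-! Subgroups of the alternating group of degree 12 (generated data, helper12). -/

set_option autoImplicit false
set_option maxRecDepth 1000000
set_option maxHeartbeats 0

namespace Cfsg.Lib.HN3

open Cfsg.Lib.Calc Cfsg.Lib.Grp Cfsg.Lib.T2 Cfsg.Lib.T3

def a12_L0 : List (ℕ × List ℕ) := [((nat_lit 0), [(nat_lit 205163983024656), (nat_lit 205163983024161), (nat_lit 205163728012611), (nat_lit 205163983024386), (nat_lit 205163728012116), (nat_lit 205163728012341), (nat_lit 205163694457671), (nat_lit 205163962893366), (nat_lit 117203032671051), (nat_lit 115150038303561), (nat_lit 118238119789386), (nat_lit 133841467540296)]),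
  ((nat_lit 3), [(nat_lit 205163983024656), (nat_lit 205163967095856), (nat_lit 205163980997136), (nat_lit 205163967157056), (nat_lit 205163981918736), (nat_lit 205163961934896), (nat_lit 117204105458736), (nat_lit 134794949342256), (nat_lit 132741954966576), (nat_lit 116249548981296), (nat_lit 118302543356976)]),
  ((nat_lit 4), [(nat_lit 205163983024656), (nat_lit 117203132364096), (nat_lit 117203133346896), (nat_lit 205163982041376), (nat_lit 99611939647776), (nat_lit 134794701386016), (nat_lit 99547531850016), (nat_lit 132741706887456), (nat_lit 116249049182496), (nat_lit 118302043681056)]),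
  ((nat_lit 5), [(nat_lit 205163983024656), (nat_lit 46769695372656), (nat_lit 117137031314256), (nat_lit 99611875488096), (nat_lit 134794624382496), (nat_lit 29176340166576), (nat_lit 132741627917856), (nat_lit 115629504084816), (nat_lit 117819939502416)]),
  ((nat_lit 6), [(nat_lit 205163983024656), (nat_lit 185896575187056), (nat_lit 204124634493456), (nat_lit 118343920269456), (nat_lit 159947708183136), (nat_lit 177688741689456), (nat_lit 130535084274336), (nat_lit 25712515102896)]),
  ((nat_lit 7), [(nat_lit 205163983024656), (nat_lit 186378869813616), (nat_lit 135966154307616), (nat_lit 167270291879856), (nat_lit 177619015580016), (nat_lit 126038337403056), (nat_lit 196363863472656)]),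
  ((nat_lit 8), [(nat_lit 205163983024656), (nat_lit 152941475672736), (nat_lit 46778474049936), (nat_lit 167819242386096), (nat_lit 29353791732096), (nat_lit 37084732864896)]),
  ((nat_lit 9), [(nat_lit 205163983024656), (nat_lit 185922529540896), (nat_lit 48002539729296), (nat_lit 159602969950896), (nat_lit 178913142911376)]),
  ((nat_lit 10), [(nat_lit 205163983024656), (nat_lit 47933820254736), (nat_lit 178775703960336), (nat_lit 195268378376736)]),
  ((nat_lit 1), [(nat_lit 205163983024656), (nat_lit 46834308624816), (nat_lit 29242122582816)])]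

def a12_D0 : List ℕ := [(nat_lit 0), (nat_lit 513), (nat_lit 3073), (nat_lit 769), (nat_lit 216066), (nat_lit 244994), (nat_lit 315906), (nat_lit 351746), (nat_lit 374274), (nat_lit 434178), (nat_lit 455170), (nat_lit 498178), (nat_lit 0), (nat_lit 24483075), (nat_lit 1025), (nat_lit 27063555), (nat_lit 1281), (nat_lit 2830038276), (nat_lit 896514), (nat_lit 926466), (nat_lit 1019906), (nat_lit 1084930), (nat_lit 1153026), (nat_lit 0), (nat_lit 416430007557), (nat_lit 464347330309), (nat_lit 47251535591686), (nat_lit 9311211268), (nat_lit 10043876100), (nat_lit 1640962), (nat_lit 1724418), (nat_lit 1852930), (nat_lit 1941506), (nat_lit 0), (nat_lit 0x2d954e89088d07), (nat_lit 0x3299021b81ad07), (nat_lit 0x18ca7329074b3108), (nat_lit 0x1d3ec5aee9367108), (nat_lit 0x226646e0bcce7508), (nat_lit 2563074), (nat_lit 0x300ebae57a8c5908), (nat_lit 2826242), (nat_lit 0), (nat_lit 0x1fc1a41c19da878509), (nat_lit 295918851), (nat_lit 0x2a3e13c8d7b6565d09), (nat_lit 0x16ddfc8a99184cadaf0a), (nat_lit 0x1b25bd4f196b211e0d0a), (nat_lit 0x2022c664f61d3cb0930a), (nat_lit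 0x25ef50f1bb763740e10a), (nat_lit 0), (nat_lit 7919124560645), (nat_lit 8020925807365), (nat_lit 0x44968dfe22f06), (nat_lit 0x49fc387926706), (nat_lit 0x51030681a2106), (nat_lit 0x59f3409762306), (nat_lit 0), (nat_lit 0x38df2086f90cd07), (nat_lit 0x3cfc64cb1832107), (nat_lit 0x282cdb30572af5108), (nat_lit 0x2cde0d21f1db5f508), (nat_lit 0x315777bf896743108), (nat_lit 0), (nat_lit 0x244c829cd06e40a6b09), (nat_lit 0x284a46e7e1bc290f909), (nat_lit 0x1c5a7eb1288f02de03f0a), (nat_lit 0x342e8fcdc1d2a2bab09), (nat_lit 0), (nat_lit 0x5cdc62918c931ff08), (nat_lit 0x5b316ea95029eb308), (nat_lit 0x224257387477d47bc25ff0b), (nat_lit 0), (nat_lit 0x3d68e50c03fc8c4143f0a), (nat_lit 0x442f7ebd1a1371d4bbd0a)]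

def a12_L1 : List (ℕ × List ℕ) := [((nat_lit 0), [(nat_lit 205163983024656), (nat_lit 205163983024161), (nat_lit 205163983024386)]),
  ((nat_lit 3), [(nat_lit 205163983024656), (nat_lit 205163980997136), (nat_lit 205163981918736), (nat_lit 205163444072976), (nat_lit 117202530644496), (nat_lit 205099036336656), (nat_lit 115149536268816), (nat_lit 133841217159696), (nat_lit 135894211535376)]),
  ((nat_lit 4), [(nat_lit 205163983024656), (nat_lit 205163445301776), (nat_lit 205163179880976), (nat_lit 117202532119056), (nat_lit 134794784944656), (nat_lit 115149537620496), (nat_lit 116249049182496), (nat_lit 118302043681056)]),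
  ((nat_lit 5), [(nat_lit 205163983024656), (nat_lit 117203042316816), (nat_lit 99610951692816), (nat_lit 115150045852176), (nat_lit 205163699909136), (nat_lit 116249556431136), (nat_lit 118302552895776)]),
  ((nat_lit 6), [(nat_lit 205163983024656), (nat_lit 117204143321616), (nat_lit 134795054297616), (nat_lit 132742026375696), (nat_lit 133841521226016), (nat_lit 135894549147936)]),
  ((nat_lit 7), [(nat_lit 205163983024656), (nat_lit 169843245724176), (nat_lit 134933214671376), (nat_lit 134937241202976), (nat_lit 132609905799456)]),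
  ((nat_lit 8), [(nat_lit 205163983024656), (nat_lit 169923776360976), (nat_lit 152529158812176), (nat_lit 151433942151456)]),
  ((nat_lit 9), [(nat_lit 205163983024656), (nat_lit 171147842040336), (nat_lit 186609724305936)]),
  ((nat_lit 10), [(nat_lit 205163983024656), (nat_lit 188671308607776)])]

def a12_D1 : List ℕ := [(nat_lit 0), (nat_lit 513), (nat_lit 769), (nat_lit 0), (nat_lit 1025), (nat_lit 1281), (nat_lit 281090), (nat_lit 318466), (nat_lit 333826), (nat_lit 372226), (nat_lit 433154), (nat_lit 476674), (nat_lit 0), (nat_lit 371202), (nat_lit 148738), (nat_lit 644098), (nat_lit 668930), (nat_lit 749058), (nat_lit 163938812165), (nat_lit 894466), (nat_lit 0), (nat_lit 52769539), (nat_lit 56124675), (nat_lit 1117698), (nat_lit 1152258), (nat_lit 471079923461), (nat_lit 1367554), (nat_lit 0), (nat_lit 5121), (nat_lit 5377), (nat_lit 1682946), (nat_lit 1050305452805), (nat_lit 1852930), (nat_lit 0), (nat_lit 170517251), (nat_lit 178192131), (nat_lit 1846068061445), (nat_lit 2313730), (nat_lit 0), (nat_lit 2427445349125), (nat_lit 2627099751685),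 (nat_lit 0x767295e9a07907), (nat_lit 0), (nat_lit 0x975d5eea372d07), (nat_lit 0xa8f48b071d3f07), (nat_lit 0), (nat_lit 0xc03e3484244307)]

def a12_L2 : List (ℕ × List ℕ) := [((nat_lit 3), [(nat_lit 205163983024656), (nat_lit 205163980997136), (nat_lit 205163981918736), (nat_lit 205163444072976), (nat_lit 205163461829136), (nat_lit 117202530644496), (nat_lit 115149536268816), (nat_lit 118237617758736), (nat_lit 133841217159696)]),
  ((nat_lit 4), [(nat_lit 205163983024656), (nat_lit 205163730383376), (nat_lit 205163445301776), (nat_lit 205163194626576), (nat_lit 117339703554576), (nat_lit 169772664435216), (nat_lit 115144975331856), (nat_lit 116248781795856)]),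
  ((nat_lit 5), [(nat_lit 205163983024656), (nat_lit 205163699909136), (nat_lit 205163463979536), (nat_lit 117339975856656), (nat_lit 169772938703376), (nat_lit 115145248616976), (nat_lit 116249053114896)]),
  ((nat_lit 6), [(nat_lit 205163983024656), (nat_lit 117340542087696), (nat_lit 169773536391696), (nat_lit 115145830576656), (nat_lit 116249603617296), (nat_lit 117204143321616)]),
  ((nat_lit 7), [(nat_lit 205163983024656), (nat_lit 134933214671376), (nat_lit 169843245724176), (nat_lit 132738754818576), (nat_lit 133842024542736)]),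
  ((nat_lit 8), [(nat_lit 205163983024656), (nat_lit 203037974213136), (nat_lit 185385658626576), (nat_lit 204004341854736)]),
  ((nat_lit 9), [(nat_lit 205163983024656), (nat_lit 186609724305936), (nat_lit 171147842040336)])]

def a12_D2 : List ℕ := [(nat_lit 0), (nat_lit 513), (nat_lit 769), (nat_lit 136706), (nat_lit 160770), (nat_lit 176130), (nat_lit 217602), (nat_lit 232450), (nat_lit 263170), (nat_lit 0), (nat_lit 44290), (nat_lit 206338), (nat_lit 18111747), (nat_lit 930955012), (nat_lit 1063015684), (nat_lit 544258), (nat_lit 567042), (nat_lit 0), (nat_lit 28644867), (nat_lit 5930755), (nat_lit 2823206660), (nat_lit 3124493060), (nat_lit 924162), (nat_lit 954114), (nat_lit 0), (nat_lit 35798787), (nat_lit 37944579), (nat_lit 1256962), (nat_lit 1292034), (nat_lit 44603021556486), (nat_lit 0), (nat_lit 570190063365), (nat_lit 629277554949), (nat_lit 1723906), (nat_lit 1765122), (nat_lit 0), (nat_lit 3585), (nat_lit 178027267), (nat_lit 3841), (nat_lit 0), (nat_lit 226568451), (nat_lit 235927811)]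

def a12_L3 : List (ℕ × List ℕ) := [((nat_lit 0), [(nat_lit 205163983024656), (nat_lit 205163983024161), (nat_lit 205163983024386)]),
  ((nat_lit 3), [(nat_lit 205163983024656), (nat_lit 205163980997136), (nat_lit 205163981918736), (nat_lit 205163444072976), (nat_lit 117202530644496), (nat_lit 205099036336656), (nat_lit 115149536268816), (nat_lit 133841217159696), (nat_lit 135894211535376)]),
  ((nat_lit 4), [(nat_lit 205163983024656), (nat_lit 205163445301776), (nat_lit 205163179880976), (nat_lit 117202532119056), (nat_lit 205099037504016), (nat_lit 115149537620496), (nat_lit 133841218449936), (nat_lit 135894212948496)]),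
  ((nat_lit 5), [(nat_lit 205163983024656), (nat_lit 205099542786576), (nat_lit 117139687354896), (nat_lit 134730535416336), (nat_lit 132677538951696), (nat_lit 133776797872656), (nat_lit 135829794337296)]),
  ((nat_lit 6), [(nat_lit 205163983024656), (nat_lit 117204143321616), (nat_lit 134795054297616), (nat_lit 132742026375696), (nat_lit 133777096716816), (nat_lit 135830124638736)]),
  ((nat_lit 7), [(nat_lit 205163983024656), (nat_lit 169843245724176), (nat_lit 134933214671376), (nat_lit 186347999736336), (nat_lit 133640697950736)]),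
  ((nat_lit 8), [(nat_lit 205163983024656), (nat_lit 204004341854736), (nat_lit 151369517642256), (nat_lit 203037974213136)]),
  ((nat_lit 9), [(nat_lit 205163983024656), (nat_lit 171147842040336), (nat_lit 186609724305936)])]

def a12_D3 : List ℕ := [(nat_lit 0), (nat_lit 513), (nat_lit 769), (nat_lit 0), (nat_lit 1025), (nat_lit 1281), (nat_lit 247810), (nat_lit 283138), (nat_lit 297474), (nat_lit 333826), (nat_lit 391682), (nat_lit 433154), (nat_lit 0), (nat_lit 331778), (nat_lit 118018), (nat_lit 593410), (nat_lit 614914), (nat_lit 694274), (nat_lit 776706), (nat_lit 834562), (nat_lit 0), (nat_lit 47406339), (nat_lit 1020418), (nat_lit 1052418), (nat_lit 1152002), (nat_lit 6031346948), (nat_lit 1293314), (nat_lit 0), (nat_lit 4609), (nat_lit 4865), (nat_lit 1600514), (nat_lit 11116707588), (nat_lit 12250844932), (nat_lit 0), (nat_lit 159023363), (nat_lit 166346499), (nat_lit 17676922628), (nat_lit 19277205252), (nat_lit 0), (nat_lit 2191683413765), (nat_lit 159043331), (nat_lit 2571130507013), (nat_lit 0), (nat_lit 3315519895813), (nat_lit 3433229437701)]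

def a12_L4 : List (ℕ × List ℕ) := [((nat_lit 0), [(nat_lit 205163983024656), (nat_lit 205163983024161), (nat_lit 205163983024386)]),
  ((nat_lit 3), [(nat_lit 205163983024656), (nat_lit 205163980997136), (nat_lit 205163981918736)]),
  ((nat_lit 8), [(nat_lit 205163983024656), (nat_lit 203037974213136), (nat_lit 204004341854736)]),
  ((nat_lit 6), [(nat_lit 205163983024656), (nat_lit 117204143321616), (nat_lit 134795054297616)])]

def a12_D4 : List ℕ := [(nat_lit 0), (nat_lit 513), (nat_lit 769), (nat_lit 0), (nat_lit 1025), (nat_lit 1281), (nat_lit 0), (nat_lit 1537), (nat_lit 1793), (nat_lit 0), (nat_lit 2049), (nat_lit 2305)]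

def a12_L5 : List (ℕ × List ℕ) := [((nat_lit 3), [(nat_lit 205163983024656), (nat_lit 205163980997136), (nat_lit 205163981918736)]),
  ((nat_lit 8), [(nat_lit 205163983024656), (nat_lit 203037974213136), (nat_lit 204004341854736)]),
  ((nat_lit 6), [(nat_lit 205163983024656), (nat_lit 117204143321616), (nat_lit 134795054297616)])]

def a12_D5 : List ℕ := [(nat_lit 0), (nat_lit 513), (nat_lit 769), (nat_lit 0), (nat_lit 1025), (nat_lit 1281), (nat_lit 0), (nat_lit 1537), (nat_lit 1793)]

def a12_L6 : List (ℕ × List ℕ) := [((nat_lit 0), [(nat_lit 205163983024656), (nat_lit 205163983024161), (nat_lit 205163983024386)]),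
  ((nat_lit 3), [(nat_lit 205163983024656), (nat_lit 205163980997136), (nat_lit 205163981918736)])]

def a12_D6 : List ℕ := [(nat_lit 0), (nat_lit 513), (nat_lit 769), (nat_lit 0), (nat_lit 1025), (nat_lit 1281)]

def a12_L7 : List (ℕ × List ℕ) := [((nat_lit 8), [(nat_lit 205163983024656), (nat_lit 188606884098576), (nat_lit 167926616568336), (nat_lit 151369517642256)])]

def a12_D7 : List ℕ := [(nat_lit 0), (nat_lit 513), (nat_lit 1025), (nat_lit 25602)]

def a12_L8 : List (ℕ × List ℕ) := [((nat_lit 6), [(nat_lit 205163983024656), (nat_lit 205099306856976), (nat_lit 134795054297616), (nat_lit 132742026375696), (nat_lit 135830124638736), (nat_lit 116249603617296)]),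
  ((nat_lit 8), [(nat_lit 205163983024656), (nat_lit 203037974213136), (nat_lit 204004341854736), (nat_lit 167846085931536), (nat_lit 132678356840976)]),
  ((nat_lit 9), [(nat_lit 205163983024656), (nat_lit 169843245724176), (nat_lit 171147842040336), (nat_lit 134933214671376)]),
  ((nat_lit 7), [(nat_lit 205163983024656), (nat_lit 135895555781136), (nat_lit 184274335838736)])]

def a12_D8 : List ℕ := [(nat_lit 0), (nat_lit 513), (nat_lit 2817), (nat_lit 74754), (nat_lit 83458), (nat_lit 101890), (nat_lit 0), (nat_lit 2049), (nat_lit 2305), (nat_lit 183940868), (nat_lit 222917380), (nat_lit 0), (nat_lit 6068995), (nat_lit 11175683), (nat_lit 7490307), (nat_lit 0), (nat_lit 887250692), (nat_lit 752791300)]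

def a12_L9 : List (ℕ × List ℕ) := [((nat_lit 0), [(nat_lit 205163983024656), (nat_lit 205163983024161), (nat_lit 205163983024386)]),
  ((nat_lit 3), [(nat_lit 205163983024656), (nat_lit 205163980997136), (nat_lit 205163981918736), (nat_lit 205163444072976), (nat_lit 205163460845856)]),
  ((nat_lit 4), [(nat_lit 205163983024656), (nat_lit 205163445301776), (nat_lit 205163179880976), (nat_lit 205163462013216)]),
  ((nat_lit 1), [(nat_lit 205163983024656), (nat_lit 205163731366176)]),
  ((nat_lit 5), [(nat_lit 205163983024656), (nat_lit 205163463979536), (nat_lit 205163699909136)])]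

def a12_D9 : List ℕ := [(nat_lit 0), (nat_lit 513), (nat_lit 769), (nat_lit 0), (nat_lit 1025), (nat_lit 1281), (nat_lit 137730), (nat_lit 4210435), (nat_lit 0), (nat_lit 156162), (nat_lit 95490), (nat_lit 8951555), (nat_lit 0), (nat_lit 81666), (nat_lit 0), (nat_lit 654010116), (nat_lit 747138820)]

def a12_L10 : List (ℕ × List ℕ) := [((nat_lit 0), [(nat_lit 205163983024656), (nat_lit 205163983024161), (nat_lit 205163983024386)]),
  ((nat_lit 3), [(nat_lit 205163983024656), (nat_lit 205163980997136), (nat_lit 205163981918736), (nat_lit 205163444072976), (nat_lit 205163460845856)]),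
  ((nat_lit 4), [(nat_lit 205163983024656), (nat_lit 205163445301776), (nat_lit 205163179880976), (nat_lit 205163462013216)]),
  ((nat_lit 1), [(nat_lit 205163983024656), (nat_lit 205163731366176)]),
  ((nat_lit 5), [(nat_lit 205163983024656), (nat_lit 205163463979536), (nat_lit 205163699909136)]),
  ((nat_lit 8), [(nat_lit 205163983024656), (nat_lit 188606884098576), (nat_lit 167926616568336), (nat_lit 151369517642256)])]

def a12_D10 : List ℕ := [(nat_lit 0), (nat_lit 513), (nat_lit 769), (nat_lit 0), (nat_lit 1025), (nat_lit 1281), (nat_lit 188930), (nat_lit 6517507), (nat_lit 0), (nat_lit 211458), (nat_lit 107778), (nat_lit 12651267), (nat_lit 0), (nat_lit 90882), (nat_lit 0), (nat_lit 960013060), (nat_lit 1082644228), (nat_lit 0), (nat_lit 3073), (nat_lit 3585), (nat_lit 749058)]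

def a12_L11 : List (ℕ × List ℕ) := [((nat_lit 8), [(nat_lit 205163983024656), (nat_lit 188606884098576)]),
  ((nat_lit 6), [(nat_lit 205163983024656), (nat_lit 188671056949776)])]

def a12_D11 : List ℕ := [(nat_lit 0), (nat_lit 513), (nat_lit 0), (nat_lit 14594)]

def a12_L12 : List (ℕ × List ℕ) := [((nat_lit 0), [(nat_lit 205163983024656), (nat_lit 205163983024161), (nat_lit 205163728012611), (nat_lit 205163983024386), (nat_lit 205163728012116), (nat_lit 205163728012341), (nat_lit 205163694457671), (nat_lit 205163962893366)]),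
  ((nat_lit 3), [(nat_lit 205163983024656), (nat_lit 205163967095856), (nat_lit 205163980997136), (nat_lit 205163967157056), (nat_lit 205163981918736), (nat_lit 205163961934896), (nat_lit 205163693503296)]),
  ((nat_lit 4), [(nat_lit 205163983024656), (nat_lit 205163728024656), (nat_lit 205163730383376), (nat_lit 205163727041856), (nat_lit 205162653561936), (nat_lit 205163177914656)]),
  ((nat_lit 1), [(nat_lit 205163983024656), (nat_lit 205163899139616), (nat_lit 205162369267056), (nat_lit 205163915915616), (nat_lit 205162386044496)]),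
  ((nat_lit 5), [(nat_lit 205163983024656), (nat_lit 205163463979536), (nat_lit 205163443009296), (nat_lit 205163699909136)]),
  ((nat_lit 2), [(nat_lit 205163983024656), (nat_lit 205163647481616), (nat_lit 205162657625616)])]

def a12_D12 : List ℕ := [(nat_lit 0), (nat_lit 513), (nat_lit 3073), (nat_lit 769), (nat_lit 93186), (nat_lit 111874), (nat_lit 162306), (nat_lit 187906), (nat_lit 0), (nat_lit 7445251), (nat_lit 1025), (nat_lit 8753411), (nat_lit 1281), (nat_lit 634190596), (nat_lit 431618), (nat_lit 0), (nat_lit 48846140677), (nat_lit 82690), (nat_lit 68040702213), (nat_lit 1678025988), (nat_lit 6204967701766), (nat_lit 0), (nat_lit 27625731), (nat_lit 2881473284), (nat_lit 31577859), (nat_lit 252604643077), (nat_lit 0), (nat_lit 330999087365), (nat_lit 396195321605), (nat_lit 415847335173), (nat_lit 0), (nat_lit 47285012286726), (nat_lit 47607352324870)]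

def a12_L13 : List (ℕ × List ℕ) := [((nat_lit 0), [(nat_lit 205163983024656), (nat_lit 205163983024161), (nat_lit 205163728012611), (nat_lit 205163983024386), (nat_lit 205163728012116), (nat_lit 205163728012341), (nat_lit 205163694457671), (nat_lit 205163962893366)]),
  ((nat_lit 3), [(nat_lit 205163983024656), (nat_lit 205163967095856), (nat_lit 205163980997136), (nat_lit 205163967157056), (nat_lit 205163981918736), (nat_lit 205163961934896), (nat_lit 205099268994096)]),
  ((nat_lit 4), [(nat_lit 205163983024656), (nat_lit 205163727041856), (nat_lit 205163728024656), (nat_lit 205163982041376), (nat_lit 205099020792096), (nat_lit 205097961665616)]),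
  ((nat_lit 1), [(nat_lit 205163983024656), (nat_lit 205098212144496), (nat_lit 205097944758096), (nat_lit 205163448250656), (nat_lit 205162653431136)]),
  ((nat_lit 5), [(nat_lit 205163983024656), (nat_lit 205098234164496), (nat_lit 205099270158096), (nat_lit 205163381143056)]),
  ((nat_lit 6), [(nat_lit 205163983024656), (nat_lit 205162657625616), (nat_lit 205163647481616)]),
  ((nat_lit 8), [(nat_lit 205163983024656), (nat_lit 167926616568336), (nat_lit 205098216339216), (nat_lit 167860849882896)]),
  ((nat_lit 2), [(nat_lit 205163983024656), (nat_lit 188669966432016)])]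

def a12_D13 : List ℕ := [(nat_lit 0), (nat_lit 513), (nat_lit 3073), (nat_lit 769), (nat_lit 160770), (nat_lit 185602), (nat_lit 248322), (nat_lit 280066), (nat_lit 0), (nat_lit 12693763), (nat_lit 1025), (nat_lit 14599427), (nat_lit 1281), (nat_lit 1114960132), (nat_lit 568834), (nat_lit 0), (nat_lit 91077747973), (nat_lit 105785698053), (nat_lit 7453726370054), (nat_lit 2830068484), (nat_lit 11706948922630), (nat_lit 0), (nat_lit 63159043), (nat_lit 64946947), (nat_lit 5222937348), (nat_lit 1150466), (nat_lit 0), (nat_lit 543604444421), (nat_lit 604391494405), (nat_lit 55365253150982), (nat_lit 0), (nat_lit 134577923), (nat_lit 134011651), (nat_lit 0), (nat_lit 4097), (nat_lit 343810), (nat_lit 2123778), (nat_lit 0), (nat_lit 19966425348)]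

def a12_L14 : List (ℕ × List ℕ) := [((nat_lit 3), [(nat_lit 205163983024656), (nat_lit 205163980997136), (nat_lit 100563499450896), (nat_lit 205163981918736), (nat_lit 181709743546896), (nat_lit 100563497423376), (nat_lit 181709738570256), (nat_lit 100563498344976), (nat_lit 181709739307536)]),
  ((nat_lit 8), [(nat_lit 205163983024656), (nat_lit 203037974213136), (nat_lit 204004341854736)]),
  ((nat_lit 6), [(nat_lit 205163983024656), (nat_lit 117204143321616), (nat_lit 134795054297616)])]

def a12_D14 : List ℕ := [(nat_lit 0), (nat_lit 513), (nat_lit 2049), (nat_lit 769), (nat_lit 2305), (nat_lit 63490), (nat_lit 69890), (nat_lit 87298), (nat_lit 108802), (nat_lit 0), (nat_lit 1025), (nat_lit 1281), (nat_lit 0), (nat_lit 1537), (nat_lit 1793)]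

def a12 : PM :=
  ⟨(nat_lit 12), (nat_lit 4), [(nat_lit 205163983024161), (nat_lit 205163980997136), (nat_lit 205163731304976), (nat_lit 205163731366401), (nat_lit 205163448189456), (nat_lit 205163728012611), (nat_lit 205099306856976), (nat_lit 167926616568336), (nat_lit 188606884098576), (nat_lit 203037974213136), (nat_lit 117204143321616)],
    [[.l 1, .l 2, .l 3, .l 4, .l 5, .l 6, .l 7, .l 8, .l 9, .l 10, .l 11],
    [.l 1, .l 2, .l 3, .l 4, .l 5, .l 7, .l 8, .l 9, .l 10, .l 11],
    [.l 2, .l 3, .l 5, .l 7, .l 8, .l 9, .l 10, .l 11],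
    [.l 1, .l 2, .l 3, .l 5, .l 7, .l 8, .l 9, .l 10, .l 11],
    [.l 1, .l 2, .l 10, .l 11],
    [.l 2, .l 10, .l 11],
    [.l 1, .l 2],
    [.l 9, .l 8],
    [.l 7, .l 8, .l 9, .l 10, .l 11],
    [.l 1, .l 2, .l 3, .l 4, .l 5],
    [.l 1, .l 2, .l 3, .l 4, .l 5, .l 9, .l 8],
    [.l 9, .l 7],
    [.l 1, .l 2, .l 3, .l 4, .l 5, .l 6],
    [.l 1, .l 2, .l 3, .l 4, .l 5, .l 6, .l 7, .l 8, .l 9],
    [.l 2, .l 10, .l 11, .mul (.mul (.mul (.mul (.mul (.mul (.mul (.mul (.mul (.mul (.l 8) (.l 11)) (.l 5)) (.inv (.l 2))) (.l 9)) (.l 11)) (.l 5)) (.l 2)) (.l 8)) (.l 11)) (.l 5)]],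
    [a12_L0, a12_L1, a12_L2, a12_L3, a12_L4, a12_L5, a12_L6, a12_L7, a12_L8, a12_L9, a12_L10, a12_L11, a12_L12, a12_L13, a12_L14], [a12_D0, a12_D1, a12_D2, a12_D3, a12_D4, a12_D5, a12_D6, a12_D7, a12_D8, a12_D9, a12_D10, a12_D11, a12_D12, a12_D13, a12_D14]⟩

instance a12_ne : NeZero a12.n := ⟨by decide⟩

theorem a12_ok0 : a12.ok0 = true := by decide +kernel

theorem a12_k0 : allFrom (nat_lit 0) (nat_lit 1) a12.okK = true := by decide +kernel

theorem a12_k1 : allFrom (nat_lit 1) (nat_lit 1) a12.okK = true := by decide +kernel

theorem a12_k2 : allFrom (nat_lit 2) (nat_lit 1) a12.okK = true := by decide +kernel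

theorem a12_k3 : allFrom (nat_lit 3) (nat_lit 1) a12.okK = true := by decide +kernel

theorem a12_k4 : allFrom (nat_lit 4) (nat_lit 1) a12.okK = true := by decide +kernel

theorem a12_k5 : allFrom (nat_lit 5) (nat_lit 1) a12.okK = true := by decide +kernel

theorem a12_k6 : allFrom (nat_lit 6) (nat_lit 1) a12.okK = true := by decide +kernel

theorem a12_k7 : allFrom (nat_lit 7) (nat_lit 1) a12.okK = true := by decide +kernel

theorem a12_k8 : allFrom (nat_lit 8) (nat_lit 1) a12.okK = true := by decide +kernel

theorem a12_k9 : allFrom (nat_lit 9) (nat_lit 1) a12.okK = true := by decide +kernel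

theorem a12_k10 : allFrom (nat_lit 10) (nat_lit 1) a12.okK = true := by decide +kernel

theorem a12_k11 : allFrom (nat_lit 11) (nat_lit 1) a12.okK = true := by decide +kernel

theorem a12_k12 : allFrom (nat_lit 12) (nat_lit 1) a12.okK = true := by decide +kernel

theorem a12_k13 : allFrom (nat_lit 13) (nat_lit 1) a12.okK = true := by decide +kernel

theorem a12_k14 : allFrom (nat_lit 14) (nat_lit 1) a12.okK = true := by decide +kernel

theorem a12_ok : a12.OK := PM.OK.of_check a12_ok0
  (of_allFrom_append (of_allFrom_append (of_allFrom_append (of_allFrom_append (of_allFrom_append (of_allFrom_append (of_allFrom_append (of_allFrom_append (of_allFrom_append (of_allFrom_append (of_allFrom_append (of_allFrom_append (of_allFrom_append (of_allFrom_append (of_allFrom_append of_lt_zero a12_k0) a12_k1) a12_k2) a12_k3) a12_k4) a12_k5) a12_k6) a12_k7) a12_k8) a12_k9) a12_k10) a12_k11) a12_k12) a12_k13) a12_k14)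

theorem a12_card0 : Nat.card (genW a12.gam (a12.ws 0)) = 239500800 := (a12_ok.card 0).trans (by decide +kernel)

theorem a12_card1 : Nat.card (genW a12.gam (a12.ws 1)) = 1088640 := (a12_ok.card 1).trans (by decide +kernel)

theorem a12_card2 : Nat.card (genW a12.gam (a12.ws 2)) = 181440 := (a12_ok.card 2).trans (by decide +kernel)

theorem a12_card3 : Nat.card (genW a12.gam (a12.ws 3)) = 544320 := (a12_ok.card 3).trans (by decide +kernel)

theorem a12_card4 : Nat.card (genW a12.gam (a12.ws 4)) = 81 := (a12_ok.card 4).trans (by decide +kernel)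

theorem a12_card5 : Nat.card (genW a12.gam (a12.ws 5)) = 27 := (a12_ok.card 5).trans (by decide +kernel)

theorem a12_card6 : Nat.card (genW a12.gam (a12.ws 6)) = 9 := (a12_ok.card 6).trans (by decide +kernel)

theorem a12_card7 : Nat.card (genW a12.gam (a12.ws 7)) = 4 := (a12_ok.card 7).trans (by decide +kernel)

theorem a12_card8 : Nat.card (genW a12.gam (a12.ws 8)) = 360 := (a12_ok.card 8).trans (by decide +kernel)

theorem a12_card9 : Nat.card (genW a12.gam (a12.ws 9)) = 360 := (a12_ok.card 9).trans (by decide +kernel)

theorem a12_card10 : Nat.card (genW a12.gam (a12.ws 10)) = 1440 := (a12_ok.card 10).trans (by decide +kernel)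

theorem a12_card11 : Nat.card (genW a12.gam (a12.ws 11)) = 4 := (a12_ok.card 11).trans (by decide +kernel)

theorem a12_card12 : Nat.card (genW a12.gam (a12.ws 12)) = 20160 := (a12_ok.card 12).trans (by decide +kernel)

theorem a12_card13 : Nat.card (genW a12.gam (a12.ws 13)) = 161280 := (a12_ok.card 13).trans (by decide +kernel)

theorem a12_card14 : Nat.card (genW a12.gam (a12.ws 14)) = 81 := (a12_ok.card 14).trans (by decide +kernel)

end Cfsg.Lib.HN3
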