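import Cfsg.Agent.Lib.HN3.A12

/-! Facts about `(3 × A₉) : 2` (generated data, helper23). -/

set_option autoImplicit false
set_option maxRecDepth 1000000
set_option maxHeartbeats 0

namespace Cfsg.Lib.HN3

open Cfsg.Lib.Calc Cfsg.Lib.Grp Cfsg.Lib.T2 Cfsg.Lib.T3

/-- a formula -/
def a12_f0_f : Fm := .all 1 40 [(.l 1, .l 1), (.l 2, .l 2)] (.imp (.one (.mul (.l 40) (.l 40))) (.mem 8 (.l 40)))

theorem a12_f0_ev : a12.eval a12_f0_f = true := by decide +kernel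

theorem a12_f0 {G : Type*} [Group G] {γ : ℕ → G} {k : ℕ} {N : List W} (g : Gf a12 γ k N)
    (e : tyB a12 k N a12_f0_f = true := by decide +kernel) :
    ∀ n ∈ genW γ (a12.ws 1), n * γ 1 = γ 1 * n → n * γ 2 = γ 2 * n → n * n = 1 → n ∈ genW γ (a12.ws 8) :=
  g.transfer e a12_f0_ev

/-- a formula -/
def a12_f1_f : Fm := .all 8 40 [] (.imp (.one (.mul (.l 40) (.l 40))) (.imp (.not (.one (.l 40))) (.imp (.one (.pow (.mul (.l 40) (.l 10)) 3)) (.ex 8 41 [(.l 10, .l 10), (.l 40, .l 9)] (.tt)))))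

theorem a12_f1_ev : a12.eval a12_f1_f = true := by decide +kernel

theorem a12_f1 {G : Type*} [Group G] {γ : ℕ → G} {k : ℕ} {N : List W} (g : Gf a12 γ k N)
    (e : tyB a12 k N a12_f1_f = true := by decide +kernel) :
    ∀ n ∈ genW γ (a12.ws 8), n * n = 1 → n ≠ 1 → (n * γ 10) ^ 3 = 1 → ∃ l ∈ genW γ (a12.ws 8), l * γ 10 = γ 10 * l ∧ l * n = γ 9 * l ∧ True :=
  g.transfer e a12_f1_ev

/-- a formula -/
def a12_f2_f : Fm := .all 8 40 [] (.imp (.one (.mul (.l 40) (.l 40))) (.imp (.not (.one (.l 40))) (.imp (.one (.pow (.mul (.l 40) (.mul (.l 10) (.l 11))) 3)) (.ex 8 41 [(.l 40, .l 9), (.mul (.mul (.inv (.mul (.l 10) (.l 11))) (.l 40)) (.mul (.l 10) (.l 11)), .l 7)] (.tt)))))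

theorem a12_f2_ev : a12.eval a12_f2_f = true := by decide +kernel

theorem a12_f2 {G : Type*} [Group G] {γ : ℕ → G} {k : ℕ} {N : List W} (g : Gf a12 γ k N)
    (e : tyB a12 k N a12_f2_f = true := by decide +kernel) :
    ∀ n ∈ genW γ (a12.ws 8), n * n = 1 → n ≠ 1 → (n * (γ 10 * γ 11)) ^ 3 = 1 → ∃ l ∈ genW γ (a12.ws 8), l * n = γ 9 * l ∧ l * ((γ 10 * γ 11)⁻¹ * n * (γ 10 * γ 11)) = γ 7 * l ∧ True :=
  g.transfer e a12_f2_ev

/-- a formula -/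
def a12_f3_f : Fm := .all 1 40 [(.l 1, .l 1), (.l 9, .l 9)] (.imp (.or (.eq (.mul (.mul (.l 40) (.l 7)) (.inv (.l 40))) (.l 7)) (.eq (.mul (.mul (.l 40) (.l 7)) (.inv (.l 40))) (.mul (.l 9) (.l 7)))) (.mem 6 (.mul (.mul (.l 40) (.l 2)) (.inv (.l 40)))))

theorem a12_f3_ev : a12.eval a12_f3_f = true := by decide +kernel

theorem a12_f3 {G : Type*} [Group G] {γ : ℕ → G} {k : ℕ} {N : List W} (g : Gf a12 γ k N)
    (e : tyB a12 k N a12_f3_f = true := by decide +kernel) :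
    ∀ n ∈ genW γ (a12.ws 1), n * γ 1 = γ 1 * n → n * γ 9 = γ 9 * n → n * γ 7 * n⁻¹ = γ 7 ∨ n * γ 7 * n⁻¹ = γ 9 * γ 7 → n * γ 2 * n⁻¹ ∈ genW γ (a12.ws 6) :=
  g.transfer e a12_f3_ev

/-- a formula -/
def a12_f4_f : Fm := .all 1 40 [(.l 1, .l 1), (.l 9, .l 9)] (.imp (.mem 6 (.mul (.mul (.l 40) (.l 2)) (.inv (.l 40)))) (.mem 6 (.pow (.l 40) 8)))

theorem a12_f4_ev : a12.eval a12_f4_f = true := by decide +kernel

theorem a12_f4 {G : Type*} [Group G] {γ : ℕ → G} {k : ℕ} {N : List W} (g : Gf a12 γ k N)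
    (e : tyB a12 k N a12_f4_f = true := by decide +kernel) :
    ∀ n ∈ genW γ (a12.ws 1), n * γ 1 = γ 1 * n → n * γ 9 = γ 9 * n → n * γ 2 * n⁻¹ ∈ genW γ (a12.ws 6) → n ^ 8 ∈ genW γ (a12.ws 6) :=
  g.transfer e a12_f4_ev

/-- a formula -/
def a12_f5_f : Fm := .all 1 40 [(.l 9, .l 9)] (.and (.or (.mem 10 (.l 40)) (.mem 10 (.mul (.l 40) (.l 7)))) (.or (.eq (.mul (.mul (.l 40) (.l 8)) (.inv (.l 40))) (.l 8)) (.eq (.mul (.mul (.l 40) (.l 8)) (.inv (.l 40))) (.mul (.l 9) (.l 8)))))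

theorem a12_f5_ev : a12.eval a12_f5_f = true := by decide +kernel

theorem a12_f5 {G : Type*} [Group G] {γ : ℕ → G} {k : ℕ} {N : List W} (g : Gf a12 γ k N)
    (e : tyB a12 k N a12_f5_f = true := by decide +kernel) :
    ∀ n ∈ genW γ (a12.ws 1), n * γ 9 = γ 9 * n → (n ∈ genW γ (a12.ws 10) ∨ n * γ 7 ∈ genW γ (a12.ws 10)) ∧ (n * γ 8 * n⁻¹ = γ 8 ∨ n * γ 8 * n⁻¹ = γ 9 * γ 8) :=
  g.transfer e a12_f5_ev

/-- a formula -/
def a12_f6_f : Fm := .all 1 40 [(.l 9, .l 9), (.l 10, .l 10)] (.mem 9 (.l 40))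

theorem a12_f6_ev : a12.eval a12_f6_f = true := by decide +kernel

theorem a12_f6 {G : Type*} [Group G] {γ : ℕ → G} {k : ℕ} {N : List W} (g : Gf a12 γ k N)
    (e : tyB a12 k N a12_f6_f = true := by decide +kernel) :
    ∀ n ∈ genW γ (a12.ws 1), n * γ 9 = γ 9 * n → n * γ 10 = γ 10 * n → n ∈ genW γ (a12.ws 9) :=
  g.transfer e a12_f6_ev

/-- a formula -/
def a12_f7_f : Fm := .all 6 40 [] (.or (.one (.l 40)) (.or (.or (.eq (.l 40) (.l 1)) (.eq (.l 40) (.inv (.l 1)))) (.or (.or (.eq (.l 40) (.l 2)) (.eq (.l 40) (.inv (.l 2)))) (.or (.or (.eq (.l 40) (.mul (.l 1) (.l 2))) (.eq (.l 40) (.inv (.mul (.l 1) (.l 2))))) (.or (.eq (.l 40) (.mul (.l 1) (.inv (.l 2)))) (.eq (.l 40) (.inv (.mul (.l 1) (.inv (.l 2))))))))))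

theorem a12_f7_ev : a12.eval a12_f7_f = true := by decide +kernel

theorem a12_f7 {G : Type*} [Group G] {γ : ℕ → G} {k : ℕ} {N : List W} (g : Gf a12 γ k N)
    (e : tyB a12 k N a12_f7_f = true := by decide +kernel) :
    ∀ z ∈ genW γ (a12.ws 6), z = 1 ∨ (z = γ 1 ∨ z = (γ 1)⁻¹) ∨ (z = γ 2 ∨ z = (γ 2)⁻¹) ∨ (z = γ 1 * γ 2 ∨ z = (γ 1 * γ 2)⁻¹) ∨ z = γ 1 * (γ 2)⁻¹ ∨ z = (γ 1 * (γ 2)⁻¹)⁻¹ :=
  g.transfer e a12_f7_ev

end Cfsg.Lib.HN3
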