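import Cfsg.Agent.Lib.HN3.N0

/-! Facts on the normaliser of `3⁴` (generated data, helper12). -/

set_option autoImplicit false
set_option maxRecDepth 1000000
set_option maxHeartbeats 0

namespace Cfsg.Lib.HN3

open Cfsg.Lib.Calc Cfsg.Lib.Grp Cfsg.Lib.T2 Cfsg.Lib.T3

/-- a formula -/
def n0_c3_f : Fm := .all 4 40 [(.l 7, .l 7), (.l 2, .l 2)] (.all 7 41 [] (.imp (.eq (.mul (.mul (.mul (.mul (.mul (.mul (.l 6) (.l 41)) (.l 4)) (.l 3)) (.inv (.l 6))) (.l 3)) (.l 4)) (.mul (.mul (.l 40) (.inv (.l 4))) (.inv (.l 40)))) (.or (.one (.l 41)) (.or (.eq (.l 41) (.mul (.l 2) (.inv (.l 1)))) (.eq (.l 41) (.mul (.inv (.l 2)) (.l 1)))))))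

theorem n0_c3_ev : n0.eval n0_c3_f = true := by decide +kernel

theorem n0_c3 {G : Type*} [Group G] {γ : ℕ → G} {k : ℕ} {N : List W} (g : Gf n0 γ k N)
    (e : tyB n0 k N n0_c3_f = true := by decide +kernel) :
    ∀ c ∈ genW γ (n0.ws 4), c * γ 7 = γ 7 * c → c * γ 2 = γ 2 * c → ∀ w ∈ genW γ (n0.ws 7), γ 6 * w * γ 4 * γ 3 * (γ 6)⁻¹ * γ 3 * γ 4 = c * (γ 4)⁻¹ * c⁻¹ → w = 1 ∨ w = γ 2 * (γ 1)⁻¹ ∨ w = (γ 2)⁻¹ * γ 1 :=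
  g.transfer e n0_c3_ev

/-- a formula -/
def n0_f6_f : Fm := .all 4 40 [] (.or (.mem 5 (.l 40)) (.all 5 41 [(.l 40, .l 40)] (.mem 2 (.l 41))))

theorem n0_f6_ev : n0.eval n0_f6_f = true := by decide +kernel

theorem n0_f6 {G : Type*} [Group G] {γ : ℕ → G} {k : ℕ} {N : List W} (g : Gf n0 γ k N)
    (e : tyB n0 k N n0_f6_f = true := by decide +kernel) :
    ∀ d ∈ genW γ (n0.ws 4), d ∈ genW γ (n0.ws 5) ∨ (∀ e ∈ genW γ (n0.ws 5), e * d = d * e → e ∈ genW γ (n0.ws 2)) :=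
  g.transfer e n0_f6_ev

/-- a formula -/
def n0_f7_f : Fm := .all 4 40 [(.l 2, .l 2), (.l 3, .l 3)] (.mem 2 (.l 40))

theorem n0_f7_ev : n0.eval n0_f7_f = true := by decide +kernel

theorem n0_f7 {G : Type*} [Group G] {γ : ℕ → G} {k : ℕ} {N : List W} (g : Gf n0 γ k N)
    (e : tyB n0 k N n0_f7_f = true := by decide +kernel) :
    ∀ c ∈ genW γ (n0.ws 4), c * γ 2 = γ 2 * c → c * γ 3 = γ 3 * c → c ∈ genW γ (n0.ws 2) :=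
  g.transfer e n0_f7_ev

/-- a formula -/
def n0_ce_f : Fm := .all 5 40 [(.l 7, .l 7)] (.mem 6 (.l 40))

theorem n0_ce_ev : n0.eval n0_ce_f = true := by decide +kernel

theorem n0_ce {G : Type*} [Group G] {γ : ℕ → G} {k : ℕ} {N : List W} (g : Gf n0 γ k N)
    (e : tyB n0 k N n0_ce_f = true := by decide +kernel) :
    ∀ e ∈ genW γ (n0.ws 5), e * γ 7 = γ 7 * e → e ∈ genW γ (n0.ws 6) :=
  g.transfer e n0_ce_ev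

/-- a formula -/
def n0_f4_f : Fm := .all 6 40 [] (.all 6 41 [] (.all 2 42 [] (.imp (.mem 5 (.mul (.l 42) (.l 4))) (.imp (.eq (.mul (.mul (.l 41) (.mul (.mul (.mul (.l 40) (.l 42)) (.inv (.l 40))) (.inv (.l 42)))) (.inv (.l 41))) (.mul (.l 1) (.mul (.mul (.mul (.l 40) (.l 42)) (.inv (.l 40))) (.inv (.l 42))))) (.imp (.eq (.mul (.mul (.l 40) (.mul (.mul (.mul (.l 41) (.l 42)) (.inv (.l 41))) (.inv (.l 42)))) (.inv (.l 40))) (.mul (.l 1) (.mul (.mul (.mul (.l 41) (.l 42)) (.inv (.l 41))) (.inv (.l 42))))) (.imp (.eq (.mul (.l 40) (.mul (.mul (.mul (.l 40) (.l 42)) (.inv (.l 40))) (.inv (.l 42)))) (.mul (.mul (.mul (.mul (.l 40) (.l 42)) (.inv (.l 40))) (.inv (.l 42))) (.l 40))) (.imp (.eq (.mul (.l 41) (.mul (.mul (.mul (.l 41) (.l 42)) (.inv (.l 41))) (.inv (.l 42)))) (.mul (.mul (.mul (.mul (.l 41) (.l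 42)) (.inv (.l 41))) (.inv (.l 42))) (.l 41))) (.or (.and (.eq (.l 40) (.l 6)) (.eq (.l 41) (.inv (.l 5)))) (.or (.and (.eq (.l 40) (.inv (.l 6))) (.eq (.l 41) (.l 5))) (.or (.eq (.l 40) (.l 5)) (.eq (.l 40) (.inv (.l 5)))))))))))))

theorem n0_f4_ev : n0.eval n0_f4_f = true := by decide +kernel

theorem n0_f4 {G : Type*} [Group G] {γ : ℕ → G} {k : ℕ} {N : List W} (g : Gf n0 γ k N)
    (e : tyB n0 k N n0_f4_f = true := by decide +kernel) :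
    ∀ a ∈ genW γ (n0.ws 6), ∀ b ∈ genW γ (n0.ws 6), ∀ c ∈ genW γ (n0.ws 2), c * γ 4 ∈ genW γ (n0.ws 5) → b * (a * c * a⁻¹ * c⁻¹) * b⁻¹ = γ 1 * (a * c * a⁻¹ * c⁻¹) → a * (b * c * b⁻¹ * c⁻¹) * a⁻¹ = γ 1 * (b * c * b⁻¹ * c⁻¹) → a * (a * c * a⁻¹ * c⁻¹) = a * c * a⁻¹ * c⁻¹ * a → b * (b * c * b⁻¹ * c⁻¹) = b * c * b⁻¹ * c⁻¹ * b → a = γ 6 ∧ b = (γ 5)⁻¹ ∨ a = (γ 6)⁻¹ ∧ b = γ 5 ∨ a = γ 5 ∨ a = (γ 5)⁻¹ :=
  g.transfer e n0_f4_ev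

/-- a formula -/
def n0_f5_f : Fm := .all 2 40 [] (.imp (.mem 5 (.mul (.l 40) (.l 4))) (.ex 6 41 [] (.or (.eq (.mul (.mul (.l 41) (.l 40)) (.inv (.l 41))) (.inv (.l 4))) (.or (.eq (.mul (.mul (.l 41) (.l 40)) (.inv (.l 41))) (.mul (.inv (.l 4)) (.l 1))) (.eq (.mul (.mul (.l 41) (.l 40)) (.inv (.l 41))) (.mul (.inv (.l 4)) (.inv (.l 1))))))))

theorem n0_f5_ev : n0.eval n0_f5_f = true := by decide +kernel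

theorem n0_f5 {G : Type*} [Group G] {γ : ℕ → G} {k : ℕ} {N : List W} (g : Gf n0 γ k N)
    (e : tyB n0 k N n0_f5_f = true := by decide +kernel) :
    ∀ c ∈ genW γ (n0.ws 2), c * γ 4 ∈ genW γ (n0.ws 5) → ∃ e ∈ genW γ (n0.ws 6), e * c * e⁻¹ = (γ 4)⁻¹ ∨ e * c * e⁻¹ = (γ 4)⁻¹ * γ 1 ∨ e * c * e⁻¹ = (γ 4)⁻¹ * (γ 1)⁻¹ :=
  g.transfer e n0_f5_ev

/-- a transversal -/
def n0_lz : List (List ℕ) := [[], [8], [7], [6, 8], [8, 8], [9, 8], [7, 8], [6, 6, 8], [9, 6, 8], [6, 8, 8], [9, 8, 8], [5, 9, 8], [8, 9, 8], [7, 9, 8], [8, 9, 6, 8], [9, 6, 8, 8], [8, 9, 8, 8], [8, 5, 9, 8], [6, 8, 9, 8], [8, 8, 9, 8], [7, 8, 9, 8], [6, 8, 9, 6, 8], [8, 8, 9, 6, 8], [8, 9, 6, 8, 8], [6, 8, 5, 9, 8], [8, 8, 5, 9, 8], [9, 8, 5, 9, 8], [6, 6, 8, 9, 8], [6, 6, 8, 9, 6, 8], [6, 8, 8, 9, 6, 8], [6, 6, 8, 5, 9, 8], [6, 8, 8, 5, 9, 8]]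

/-- a transversal -/
def n0_la : List (List ℕ) := [[], [5], [6], [8], [9], [7], [8, 5], [9, 5], [7, 5], [8, 6], [9, 6], [7, 6], [6, 8], [8, 8], [9, 8], [7, 8], [8, 9], [7, 9], [6, 8, 5], [8, 8, 5], [9, 8, 5], [7, 8, 5], [8, 9, 5], [7, 9, 5], [6, 8, 6], [8, 8, 6], [9, 8, 6], [7, 8, 6], [8, 9, 6], [7, 9, 6], [6, 6, 8], [9, 6, 8], [6, 8, 8], [5, 9, 8], [7, 9, 8], [6, 8, 9], [7, 8, 9], [6, 6, 8, 5], [9, 6, 8, 5], [6, 8, 8, 5], [5, 9, 8, 5], [7, 9, 8, 5], [6, 6, 8, 6], [6, 8, 8, 6], [9, 8, 8, 6], [5, 9, 8, 6], [8, 9, 8, 6], [7, 5, 9, 8, 5]]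

/-- a transversal -/
def n0_lw : List (List ℕ) := [[], [8], [7], [6, 8], [8, 8], [7, 8], [6, 6, 8], [6, 8, 8]]

end Cfsg.Lib.HN3
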