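import Cfsg.Agent.Lib.HN3.N0

/-! Facts on the normaliser of `3⁴` (generated data, helper12). -/

set_option autoImplicit false
set_option maxRecDepth 1000000
set_option maxHeartbeats 0

namespace Cfsg.Lib.HN3

open Cfsg.Lib.Calc Cfsg.Lib.Grp Cfsg.Lib.T2 Cfsg.Lib.T3

/-- a formula -/
def n0_ca_f : Fm := .all 0 40 [(.mul (.l 2) (.inv (.l 3)), .mul (.l 2) (.inv (.l 3)))] (.mem 14 (.l 40))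

theorem n0_ca_ev : n0.eval n0_ca_f = true := by decide +kernel

theorem n0_ca {G : Type*} [Group G] {γ : ℕ → G} {k : ℕ} {N : List W} (g : Gf n0 γ k N)
    (e : tyB n0 k N n0_ca_f = true := by decide +kernel) :
    ∀ n ∈ genW γ (n0.ws 0), n * (γ 2 * (γ 3)⁻¹) = γ 2 * (γ 3)⁻¹ * n → n ∈ genW γ (n0.ws 14) :=
  g.transfer e n0_ca_ev

/-- a formula -/
def n0_f11_f : Fm := .all 14 40 [] (.or (.mem 13 (.l 40)) (.or (.mem 13 (.mul (.l 40) (.mul (.l 2) (.inv (.l 3))))) (.mem 13 (.mul (.l 40) (.inv (.mul (.l 2) (.inv (.l 3))))))))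

theorem n0_f11_ev : n0.eval n0_f11_f = true := by decide +kernel

theorem n0_f11 {G : Type*} [Group G] {γ : ℕ → G} {k : ℕ} {N : List W} (g : Gf n0 γ k N)
    (e : tyB n0 k N n0_f11_f = true := by decide +kernel) :
    ∀ n ∈ genW γ (n0.ws 14), n ∈ genW γ (n0.ws 13) ∨ n * (γ 2 * (γ 3)⁻¹) ∈ genW γ (n0.ws 13) ∨ n * (γ 2 * (γ 3)⁻¹)⁻¹ ∈ genW γ (n0.ws 13) :=
  g.transfer e n0_f11_ev

/-- a formula -/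
def n0_f13_f : Fm := .all 12 40 [] (.all 13 41 [(.l 40, .l 40)] (.or (.one (.pow (.l 41) 18)) (.or (.one (.l 40)) (.or (.eq (.l 40) (.mul (.mul (.mul (.l 1) (.l 2)) (.l 3)) (.inv (.l 4)))) (.or (.eq (.l 40) (.inv (.mul (.mul (.mul (.l 1) (.l 2)) (.l 3)) (.inv (.l 4))))) (.or (.eq (.l 40) (.mul (.inv (.l 1)) (.inv (.l 4)))) (.or (.eq (.l 40) (.inv (.mul (.inv (.l 1)) (.inv (.l 4))))) (.or (.eq (.l 40) (.mul (.mul (.mul (.l 1) (.inv (.l 2))) (.inv (.l 3))) (.inv (.l 4)))) (.eq (.l 40) (.inv (.mul (.mul (.mul (.l 1) (.inv (.l 2))) (.inv (.l 3))) (.inv (.l 4)))))))))))))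

theorem n0_f13_ev : n0.eval n0_f13_f = true := by decide +kernel

theorem n0_f13 {G : Type*} [Group G] {γ : ℕ → G} {k : ℕ} {N : List W} (g : Gf n0 γ k N)
    (e : tyB n0 k N n0_f13_f = true := by decide +kernel) :
    ∀ j ∈ genW γ (n0.ws 12), ∀ n ∈ genW γ (n0.ws 13), n * j = j * n → n ^ 18 = 1 ∨ j = 1 ∨ j = γ 1 * γ 2 * γ 3 * (γ 4)⁻¹ ∨ j = (γ 1 * γ 2 * γ 3 * (γ 4)⁻¹)⁻¹ ∨ j = (γ 1)⁻¹ * (γ 4)⁻¹ ∨ j = ((γ 1)⁻¹ * (γ 4)⁻¹)⁻¹ ∨ j = γ 1 * (γ 2)⁻¹ * (γ 3)⁻¹ * (γ 4)⁻¹ ∨ j = (γ 1 * (γ 2)⁻¹ * (γ 3)⁻¹ * (γ 4)⁻¹)⁻¹ :=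
  g.transfer e n0_f13_ev

/-- a formula -/
def n0_f14_f : Fm := .all 12 40 [] (.imp (.or (.eq (.l 40) (.mul (.mul (.mul (.l 1) (.l 2)) (.l 3)) (.inv (.l 4)))) (.or (.eq (.l 40) (.inv (.mul (.mul (.mul (.l 1) (.l 2)) (.l 3)) (.inv (.l 4))))) (.or (.eq (.l 40) (.mul (.inv (.l 1)) (.inv (.l 4)))) (.or (.eq (.l 40) (.inv (.mul (.inv (.l 1)) (.inv (.l 4))))) (.or (.eq (.l 40) (.mul (.mul (.mul (.l 1) (.inv (.l 2))) (.inv (.l 3))) (.inv (.l 4)))) (.eq (.l 40) (.inv (.mul (.mul (.mul (.l 1) (.inv (.l 2))) (.inv (.l 3))) (.inv (.l 4)))))))))) (.all 12 41 [] (.imp (.or (.eq (.l 41) (.mul (.mul (.mul (.l 1) (.l 2)) (.l 3)) (.inv (.l 4)))) (.or (.eq (.l 41) (.inv (.mul (.mul (.mul (.l 1) (.l 2)) (.l 3)) (.inv (.l 4))))) (.or (.eq (.l 41) (.mul (.inv (.l 1)) (.inv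 (.l 4)))) (.or (.eq (.l 41) (.inv (.mul (.inv (.l 1)) (.inv (.l 4))))) (.or (.eq (.l 41) (.mul (.mul (.mul (.l 1) (.inv (.l 2))) (.inv (.l 3))) (.inv (.l 4)))) (.eq (.l 41) (.inv (.mul (.mul (.mul (.l 1) (.inv (.l 2))) (.inv (.l 3))) (.inv (.l 4)))))))))) (.imp (.and (.not (.eq (.l 40) (.l 41))) (.not (.eq (.l 40) (.inv (.l 41))))) (.all 12 42 [] (.imp (.or (.eq (.l 42) (.mul (.mul (.mul (.l 1) (.l 2)) (.l 3)) (.inv (.l 4)))) (.or (.eq (.l 42) (.inv (.mul (.mul (.mul (.l 1) (.l 2)) (.l 3)) (.inv (.l 4))))) (.or (.eq (.l 42) (.mul (.inv (.l 1)) (.inv (.l 4)))) (.or (.eq (.l 42) (.inv (.mul (.inv (.l 1)) (.inv (.l 4))))) (.or (.eq (.l 42) (.mul (.mul (.mul (.l 1) (.inv (.l 2))) (.inv (.l 3))) (.inv (.l 4)))) (.eq (.l 42) (.inv (.mul (.mul (.mul (.l 1) (.inv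 (.l 2))) (.inv (.l 3))) (.inv (.l 4)))))))))) (.imp (.and (.not (.eq (.l 40) (.l 42))) (.not (.eq (.l 40) (.inv (.l 42))))) (.imp (.and (.not (.eq (.l 41) (.l 42))) (.not (.eq (.l 41) (.inv (.l 42))))) (.or (.and (.ex 0 43 [(.mul (.l 2) (.inv (.l 3)), .l 40), (.l 40, .mul (.l 2) (.inv (.l 3))), (.l 41, .l 41)] (.tt)) (.ex 0 43 [(.mul (.l 2) (.inv (.l 3)), .mul (.inv (.mul (.l 2) (.inv (.l 3)))) (.inv (.l 40))), (.l 40, .mul (.inv (.mul (.l 2) (.inv (.l 3)))) (.l 40)), (.l 41, .mul (.l 41) (.l 42))] (.tt))) (.and (.ex 0 43 [(.inv (.mul (.l 2) (.inv (.l 3))), .l 40), (.l 40, .inv (.mul (.l 2) (.inv (.l 3)))), (.l 41, .l 41)] (.tt)) (.ex 0 43 [(.inv (.mul (.l 2) (.inv (.l 3))), .mul (.inv (.inv (.mul (.l 2) (.inv (.l 3))))) (.inv (.l 40))), (.l 40, .mul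 (.inv (.inv (.mul (.l 2) (.inv (.l 3))))) (.l 40)), (.l 41, .mul (.l 41) (.l 42))] (.tt))))))))))))

theorem n0_f14_ev : n0.eval n0_f14_f = true := by decide +kernel

theorem n0_f14 {G : Type*} [Group G] {γ : ℕ → G} {k : ℕ} {N : List W} (g : Gf n0 γ k N)
    (e : tyB n0 k N n0_f14_f = true := by decide +kernel) :
    ∀ i ∈ genW γ (n0.ws 12), i = γ 1 * γ 2 * γ 3 * (γ 4)⁻¹ ∨ i = (γ 1 * γ 2 * γ 3 * (γ 4)⁻¹)⁻¹ ∨ i = (γ 1)⁻¹ * (γ 4)⁻¹ ∨ i = ((γ 1)⁻¹ * (γ 4)⁻¹)⁻¹ ∨ i = γ 1 * (γ 2)⁻¹ * (γ 3)⁻¹ * (γ 4)⁻¹ ∨ i = (γ 1 * (γ 2)⁻¹ * (γ 3)⁻¹ * (γ 4)⁻¹)⁻¹ → ∀ j ∈ genW γ (n0.ws 12), j = γ 1 * γ 2 * γ 3 * (γ 4)⁻¹ ∨ j = (γ 1 * γ 2 * γ 3 * (γ 4)⁻¹)⁻¹ ∨ j = (γ 1)⁻¹ * (γ 4)⁻¹ ∨ j = ((γ 1)⁻¹ * (γ 4)⁻¹)⁻¹ ∨ j = γ 1 * (γ 2)⁻¹ * (γ 3)⁻¹ * (γ 4)⁻¹ ∨ j = (γ 1 * (γ 2)⁻¹ * (γ 3)⁻¹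 * (γ 4)⁻¹)⁻¹ → i ≠ j ∧ i ≠ j⁻¹ → ∀ l ∈ genW γ (n0.ws 12), l = γ 1 * γ 2 * γ 3 * (γ 4)⁻¹ ∨ l = (γ 1 * γ 2 * γ 3 * (γ 4)⁻¹)⁻¹ ∨ l = (γ 1)⁻¹ * (γ 4)⁻¹ ∨ l = ((γ 1)⁻¹ * (γ 4)⁻¹)⁻¹ ∨ l = γ 1 * (γ 2)⁻¹ * (γ 3)⁻¹ * (γ 4)⁻¹ ∨ l = (γ 1 * (γ 2)⁻¹ * (γ 3)⁻¹ * (γ 4)⁻¹)⁻¹ → i ≠ l ∧ i ≠ l⁻¹ → j ≠ l ∧ j ≠ l⁻¹ → (∃ s ∈ genW γ (n0.ws 0), s * (γ 2 * (γ 3)⁻¹) = i * s ∧ s * i = γ 2 * (γ 3)⁻¹ * s ∧ s * j = j * s ∧ True) ∧ (∃ s ∈ genW γ (n0.ws 0), s * (γ 2 * (γ 3)⁻¹) = (γ 2 * (γ 3)⁻¹)⁻¹ * i⁻¹ * s ∧ s * i = (γ 2 * (γ 3)⁻¹)⁻¹ * i * s ∧ s * j = j * l * s ∧ True) ∨ (∃ s ∈ genW γ (n0.ws 0), s * (γ 2 * (γ 3)⁻¹)⁻¹ = i * s ∧ s * i = (γ 2 * (γ 3)⁻¹)⁻¹ * s ∧ s * j = j * s ∧ True) ∧ (∃ s ∈ genW γ (n0.ws 0), s * (γ 2 * (γ 3)⁻¹)⁻¹ = (γ 2 * (γ 3)⁻¹)⁻¹⁻¹ * i⁻¹ * s ∧ s * i = (γ 2 * (γ 3)⁻¹)⁻¹⁻¹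 * i * s ∧ s * j = j * l * s ∧ True) :=
  g.transfer e n0_f14_ev

/-- a formula -/
def n0_f15_f : Fm := .all 14 40 [] (.imp (.one (.pow (.l 40) 4)) (.imp (.not (.one (.mul (.l 40) (.l 40)))) (.all 14 41 [(.l 40, .inv (.l 40))] (.not (.eq (.mul (.l 41) (.l 41)) (.mul (.l 40) (.l 40)))))))

theorem n0_f15_ev : n0.eval n0_f15_f = true := by decide +kernel

theorem n0_f15 {G : Type*} [Group G] {γ : ℕ → G} {k : ℕ} {N : List W} (g : Gf n0 γ k N)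
    (e : tyB n0 k N n0_f15_f = true := by decide +kernel) :
    ∀ d ∈ genW γ (n0.ws 14), d ^ 4 = 1 → d * d ≠ 1 → ∀ c ∈ genW γ (n0.ws 14), c * d = d⁻¹ * c → c * c ≠ d * d :=
  g.transfer e n0_f15_ev

/-- a formula -/
def n0_wr_f : Fm := .all 11 40 [] (.or (.mem 12 (.l 40)) (.all 12 41 [(.l 40, .l 40)] (.or (.one (.l 41)) (.or (.eq (.l 41) (.mul (.mul (.mul (.mul (.mul (.l 1) (.l 2)) (.l 3)) (.inv (.l 4))) (.mul (.inv (.l 1)) (.inv (.l 4)))) (.mul (.mul (.mul (.l 1) (.inv (.l 2))) (.inv (.l 3))) (.inv (.l 4))))) (.eq (.l 41) (.inv (.mul (.mul (.mul (.mul (.mul (.l 1) (.l 2)) (.l 3)) (.inv (.l 4))) (.mul (.inv (.l 1)) (.inv (.l 4)))) (.mul (.mul (.mul (.l 1) (.inv (.l 2))) (.inv (.l 3))) (.inv (.l 4))))))))))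

theorem n0_wr_ev : n0.eval n0_wr_f = true := by decide +kernel

theorem n0_wr {G : Type*} [Group G] {γ : ℕ → G} {k : ℕ} {N : List W} (g : Gf n0 γ k N)
    (e : tyB n0 k N n0_wr_f = true := by decide +kernel) :
    ∀ e ∈ genW γ (n0.ws 11), e ∈ genW γ (n0.ws 12) ∨ (∀ j ∈ genW γ (n0.ws 12), j * e = e * j → j = 1 ∨ j = γ 1 * γ 2 * γ 3 * (γ 4)⁻¹ * ((γ 1)⁻¹ * (γ 4)⁻¹) * (γ 1 * (γ 2)⁻¹ * (γ 3)⁻¹ * (γ 4)⁻¹) ∨ j = (γ 1 * γ 2 * γ 3 * (γ 4)⁻¹ * ((γ 1)⁻¹ * (γ 4)⁻¹) * (γ 1 * (γ 2)⁻¹ * (γ 3)⁻¹ * (γ 4)⁻¹))⁻¹) :=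
  g.transfer e n0_wr_ev

end Cfsg.Lib.HN3
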