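import Cfsg.Agent.Lib.Mc3.McM

/-! Facts on `SL₂(5)` (generated data, helper12). -/

set_option autoImplicit false
set_option maxRecDepth 1000000
set_option maxHeartbeats 0

namespace Cfsg.Lib.HN3

open Cfsg.Lib.Calc Cfsg.Lib.Grp Cfsg.Lib.T2 Cfsg.Lib.T3 Cfsg.Lib.Mc3

theorem sl_opp : ∀ u ∈ genW sl.gam (sl.ws 1), u ^ 3 = 1 → u ≠ 1 → ∀ b ∈ genW sl.gam (sl.ws 1), b * u = u⁻¹ * b → ∀ v ∈ genW sl.gam (sl.ws 1), v ^ 3 = 1 → (v = 1 ∨ v = u ∨ v = u⁻¹) ∨ (v * b) ^ 15 = 1 ∧ (v⁻¹ * b) ^ 15 ≠ 1 ∨ (v⁻¹ * b) ^ 15 = 1 ∧ (v * b) ^ 15 ≠ 1 ∨ b = u * v⁻¹ * u⁻¹ * v * u * v⁻¹ ∨ b = u * v * u⁻¹ * v⁻¹ * u * v :=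
  sl_ok.holds (φ := .all 1 40 [] (.imp (.one (.pow (.l 40) 3)) (.imp (.not (.one (.l 40))) (.all 1 41 [(.l 40, .inv (.l 40))] (.all 1 42 [] (.imp (.one (.pow (.l 42) 3)) (.or (.or (.one (.l 42)) (.or (.eq (.l 42) (.l 40)) (.eq (.l 42) (.inv (.l 40))))) (.or (.and (.one (.pow (.mul (.l 42) (.l 41)) 15)) (.not (.one (.pow (.mul (.inv (.l 42)) (.l 41)) 15)))) (.or (.and (.one (.pow (.mul (.inv (.l 42)) (.l 41)) 15)) (.not (.one (.pow (.mul (.l 42) (.l 41)) 15)))) (.or (.eq (.l 41) (.mul (.mul (.mul (.mul (.mul (.l 40) (.inv (.l 42))) (.inv (.l 40))) (.l 42)) (.l 40)) (.inv (.l 42)))) (.eq (.l 41) (.mul (.mul (.mul (.mul (.mul (.l 40) (.l 42)) (.inv (.l 40))) (.inv (.l 42))) (.l 40)) (.l 42))))))))))))) (by decide +kernel)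

theorem sl_nrm : ∀ u ∈ genW sl.gam (sl.ws 1), u ^ 3 = 1 → u ≠ 1 → ∀ b ∈ genW sl.gam (sl.ws 1), b * u = u⁻¹ * b → ∀ c ∈ genW sl.gam (sl.ws 1), c * u * c⁻¹ = u ∨ c * u * c⁻¹ = u⁻¹ → (c = 1 ∨ c = u ∨ c = u⁻¹) ∨ (c * b = 1 ∨ c * b = u ∨ c * b = u⁻¹) ∨ (c * b ^ 2 = 1 ∨ c * b ^ 2 = u ∨ c * b ^ 2 = u⁻¹) ∨ c * b⁻¹ = 1 ∨ c * b⁻¹ = u ∨ c * b⁻¹ = u⁻¹ :=
  sl_ok.holds (φ := .all 1 40 [] (.imp (.one (.pow (.l 40) 3)) (.imp (.not (.one (.l 40))) (.all 1 41 [(.l 40, .inv (.l 40))] (.all 1 42 [] (.imp (.or (.eq (.mul (.mul (.l 42) (.l 40)) (.inv (.l 42))) (.l 40)) (.eq (.mul (.mul (.l 42) (.l 40)) (.inv (.l 42))) (.inv (.l 40)))) (.or (.or (.one (.l 42)) (.or (.eq (.l 42) (.l 40)) (.eq (.l 42) (.inv (.l 40))))) (.or (.or (.one (.mul (.l 42) (.l 41))) (.or (.eq (.mul (.l 42) (.l 41)) (.l 40)) (.eq (.mul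 (.l 42) (.l 41)) (.inv (.l 40))))) (.or (.or (.one (.mul (.l 42) (.pow (.l 41) 2))) (.or (.eq (.mul (.l 42) (.pow (.l 41) 2)) (.l 40)) (.eq (.mul (.l 42) (.pow (.l 41) 2)) (.inv (.l 40))))) (.or (.one (.mul (.l 42) (.inv (.l 41)))) (.or (.eq (.mul (.l 42) (.inv (.l 41))) (.l 40)) (.eq (.mul (.l 42) (.inv (.l 41))) (.inv (.l 40)))))))))))))) (by decide +kernel)

theorem sl_gen : ∀ u ∈ genW sl.gam (sl.ws 1), u ^ 3 = 1 → u ≠ 1 → ∀ b ∈ genW sl.gam (sl.ws 1), b * u = u⁻¹ * b → ∃ c ∈ genW sl.gam (sl.ws 1), b = u * (c * u⁻¹ * c⁻¹) * u⁻¹ * (c * u * c⁻¹) * u * (c * u⁻¹ * c⁻¹) ∨ b = u * (c * u * c⁻¹) * u⁻¹ * (c * u⁻¹ * c⁻¹) * u * (c * u * c⁻¹) :=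
  sl_ok.holds (φ := .all 1 40 [] (.imp (.one (.pow (.l 40) 3)) (.imp (.not (.one (.l 40))) (.all 1 41 [(.l 40, .inv (.l 40))] (.ex 1 42 [] (.or (.eq (.l 41) (.mul (.mul (.mul (.mul (.mul (.l 40) (.mul (.mul (.l 42) (.inv (.l 40))) (.inv (.l 42)))) (.inv (.l 40))) (.mul (.mul (.l 42) (.l 40)) (.inv (.l 42)))) (.l 40)) (.mul (.mul (.l 42) (.inv (.l 40))) (.inv (.l 42))))) (.eq (.l 41) (.mul (.mul (.mul (.mul (.mul (.l 40) (.mul (.mul (.l 42) (.l 40)) (.inv (.l 42)))) (.inv (.l 40))) (.mul (.mul (.l 42) (.inv (.l 40))) (.inv (.l 42)))) (.l 40)) (.mul (.mul (.l 42) (.l 40)) (.inv (.l 42))))))))))) (by decide +kernel)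

theorem sl_inv : ∀ c ∈ genW sl.gam (sl.ws 1), c * c = 1 → c = 1 ∨ c = sl.gam 4 :=
  sl_ok.holds (φ := .all 1 40 [] (.imp (.one (.mul (.l 40) (.l 40))) (.or (.one (.l 40)) (.eq (.l 40) (.l 4))))) (by decide +kernel)

end Cfsg.Lib.HN3
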