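import Cfsg.Agent.Lib.T3.Hlp

/-! A model of `2 × S₈` and facts about it (generated data, helper23). -/

set_option autoImplicit false
set_option maxRecDepth 1000000
set_option maxHeartbeats 0

namespace Cfsg.Lib.HN3

open Cfsg.Lib.Calc Cfsg.Lib.Grp Cfsg.Lib.T2 Cfsg.Lib.T3

def y8_L0 : List (ℕ × List ℕ) := [((nat_lit 8), [(nat_lit 654820258320), (nat_lit 590395748880)]),
  ((nat_lit 0), [(nat_lit 654820258320), (nat_lit 654820258305), (nat_lit 654820258050), (nat_lit 654820253955), (nat_lit 654820188420), (nat_lit 654819139845), (nat_lit 654802362630), (nat_lit 654533927175)]),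
  ((nat_lit 1), [(nat_lit 654820258320), (nat_lit 654820258080), (nat_lit 654820254000), (nat_lit 654820188480), (nat_lit 654819139920), (nat_lit 654802362720), (nat_lit 654533927280)]),
  ((nat_lit 2), [(nat_lit 654820258320), (nat_lit 654820254480), (nat_lit 654820189200), (nat_lit 654819140880), (nat_lit 654802363920), (nat_lit 654533928720)]),
  ((nat_lit 3), [(nat_lit 654820258320), (nat_lit 654820196880), (nat_lit 654819152400), (nat_lit 654802379280), (nat_lit 654533947920)]),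
  ((nat_lit 4), [(nat_lit 654820258320), (nat_lit 654819275280), (nat_lit 654802563600), (nat_lit 654534193680)]),
  ((nat_lit 5), [(nat_lit 654820258320), (nat_lit 654804529680), (nat_lit 654537142800)]),
  ((nat_lit 6), [(nat_lit 654820258320), (nat_lit 654568600080)])]

def y8_D0 : List ℕ := [(nat_lit 0), (nat_lit 4097), (nat_lit 0), (nat_lit 3585), (nat_lit 162818), (nat_lit 188930), (nat_lit 217090), (nat_lit 247298), (nat_lit 279554), (nat_lit 313858), (nat_lit 0), (nat_lit 3073), (nat_lit 432642), (nat_lit 475138), (nat_lit 519682), (nat_lit 566274), (nat_lit 614914), (nat_lit 0), (nat_lit 2561), (nat_lit 776194), (nat_lit 833026), (nat_lit 891906), (nat_lit 952834), (nat_lit 0), (nat_lit 2049), (nat_lit 1150466), (nat_lit 1219586), (nat_lit 1290754), (nat_lit 0), (nat_lit 1537), (nat_lit 1518594), (nat_lit 1597954),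 (nat_lit 0), (nat_lit 1025), (nat_lit 1849858), (nat_lit 0), (nat_lit 513)]

def y8_L1 : List (ℕ × List ℕ) := [((nat_lit 8), [(nat_lit 654820258320), (nat_lit 590395748880)]),
  ((nat_lit 6), [(nat_lit 654820258320), (nat_lit 654568600080)]),
  ((nat_lit 0), [(nat_lit 654820258320), (nat_lit 654820258305), (nat_lit 654820258050), (nat_lit 654820253955), (nat_lit 654820188420), (nat_lit 654819139845)]),
  ((nat_lit 1), [(nat_lit 654820258320), (nat_lit 654820258080), (nat_lit 654820254000), (nat_lit 654820188480), (nat_lit 654819139920)]),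
  ((nat_lit 2), [(nat_lit 654820258320), (nat_lit 654820254480), (nat_lit 654820189200), (nat_lit 654819140880)]),
  ((nat_lit 3), [(nat_lit 654820258320), (nat_lit 654820196880), (nat_lit 654819152400)]),
  ((nat_lit 4), [(nat_lit 654820258320), (nat_lit 654819275280)])]

def y8_D1 : List ℕ := [(nat_lit 0), (nat_lit 513), (nat_lit 0), (nat_lit 1025), (nat_lit 0), (nat_lit 3585), (nat_lit 189442), (nat_lit 217602), (nat_lit 247810), (nat_lit 280066), (nat_lit 0), (nat_lit 3073), (nat_lit 391682), (nat_lit 432130), (nat_lit 474626), (nat_lit 0), (nat_lit 2561), (nat_lit 616450), (nat_lit 667138), (nat_lit 0), (nat_lit 2049), (nat_lit 833026), (nat_lit 0), (nat_lit 1537)]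

def y8_L2 : List (ℕ × List ℕ) := [((nat_lit 3), [(nat_lit 654820258320), (nat_lit 654819152400), (nat_lit 654818230800)]),
  ((nat_lit 0), [(nat_lit 654820258320), (nat_lit 654820258050), (nat_lit 654820257825)])]

def y8_D2 : List ℕ := [(nat_lit 0), (nat_lit 513), (nat_lit 769), (nat_lit 0), (nat_lit 1025), (nat_lit 1281)]

def y8 : PM :=
  ⟨(nat_lit 10), (nat_lit 4), [(nat_lit 654568600080), (nat_lit 654804529680), (nat_lit 654819275280), (nat_lit 654820196880), (nat_lit 654820254480), (nat_lit 654820258080), (nat_lit 654820258305), (nat_lit 590395748880)],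
    [[.l 1, .l 2, .l 3, .l 4, .l 5, .l 6, .l 7, .l 8],
    [.l 8, .l 1, .l 3, .l 4, .l 5, .l 6, .l 7],
    [.mul (.l 3) (.l 4), .mul (.l 6) (.l 7)]],
    [y8_L0, y8_L1, y8_L2], [y8_D0, y8_D1, y8_D2]⟩

instance y8_ne : NeZero y8.n := ⟨by decide⟩

theorem y8_ok0 : y8.ok0 = true := by decide +kernel

theorem y8_k0 : allFrom (nat_lit 0) (nat_lit 1) y8.okK = true := by decide +kernel

theorem y8_k1 : allFrom (nat_lit 1) (nat_lit 1) y8.okK = true := by decide +kernel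

theorem y8_k2 : allFrom (nat_lit 2) (nat_lit 1) y8.okK = true := by decide +kernel

theorem y8_ok : y8.OK := PM.OK.of_check y8_ok0
  (of_allFrom_append (of_allFrom_append (of_allFrom_append of_lt_zero y8_k0) y8_k1) y8_k2)

theorem y8_card0 : Nat.card (genW y8.gam (y8.ws 0)) = 80640 := (y8_ok.card 0).trans (by decide +kernel)

theorem y8_card1 : Nat.card (genW y8.gam (y8.ws 1)) = 2880 := (y8_ok.card 1).trans (by decide +kernel)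

theorem y8_card2 : Nat.card (genW y8.gam (y8.ws 2)) = 9 := (y8_ok.card 2).trans (by decide +kernel)

/-- a formula -/
def y8_cD_f : Fm := .all 0 40 [(.mul (.l 3) (.l 4), .mul (.l 3) (.l 4)), (.mul (.l 6) (.l 7), .mul (.l 6) (.l 7))] (.imp (.one (.mul (.l 40) (.l 40))) (.or (.one (.l 40)) (.or (.eq (.l 40) (.l 8)) (.or (.eq (.l 40) (.l 1)) (.eq (.l 40) (.mul (.l 8) (.l 1)))))))

theorem y8_cD_ev : y8.eval y8_cD_f = true := by decide +kernel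

theorem y8_cD {G : Type*} [Group G] {γ : ℕ → G} {k : ℕ} {N : List W} (g : Gf y8 γ k N)
    (e : tyB y8 k N y8_cD_f = true := by decide +kernel) :
    ∀ x ∈ genW γ (y8.ws 0), x * (γ 3 * γ 4) = γ 3 * γ 4 * x → x * (γ 6 * γ 7) = γ 6 * γ 7 * x → x * x = 1 → x = 1 ∨ x = γ 8 ∨ x = γ 1 ∨ x = γ 8 * γ 1 :=
  g.transfer e y8_cD_ev

/-- a formula -/
def y8_cS_f : Fm := .all 0 40 [(.l 3, .l 3), (.l 4, .l 4), (.l 6, .l 6), (.l 7, .l 7)] (.or (.one (.l 40)) (.or (.eq (.l 40) (.l 8)) (.or (.eq (.l 40) (.l 1)) (.eq (.l 40) (.mul (.l 8) (.l 1))))))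

theorem y8_cS_ev : y8.eval y8_cS_f = true := by decide +kernel

theorem y8_cS {G : Type*} [Group G] {γ : ℕ → G} {k : ℕ} {N : List W} (g : Gf y8 γ k N)
    (e : tyB y8 k N y8_cS_f = true := by decide +kernel) :
    ∀ x ∈ genW γ (y8.ws 0), x * γ 3 = γ 3 * x → x * γ 4 = γ 4 * x → x * γ 6 = γ 6 * x → x * γ 7 = γ 7 * x → x = 1 ∨ x = γ 8 ∨ x = γ 1 ∨ x = γ 8 * γ 1 :=
  g.transfer e y8_cS_ev

/-- a formula -/
def y8_ca_f : Fm := .all 0 40 [(.l 1, .l 1)] (.mem 1 (.l 40))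

theorem y8_ca_ev : y8.eval y8_ca_f = true := by decide +kernel

theorem y8_ca {G : Type*} [Group G] {γ : ℕ → G} {k : ℕ} {N : List W} (g : Gf y8 γ k N)
    (e : tyB y8 k N y8_ca_f = true := by decide +kernel) :
    ∀ x ∈ genW γ (y8.ws 0), x * γ 1 = γ 1 * x → x ∈ genW γ (y8.ws 1) :=
  g.transfer e y8_ca_ev

/-- a formula -/
def y8_z_f : Fm := .all 0 40 [(.l 1, .l 1), (.mul (.mul (.mul (.mul (.mul (.mul (.l 1) (.l 2)) (.l 3)) (.l 4)) (.l 5)) (.l 6)) (.l 7), .mul (.mul (.mul (.mul (.mul (.mul (.l 1) (.l 2)) (.l 3)) (.l 4)) (.l 5)) (.l 6)) (.l 7))] (.or (.one (.l 40)) (.eq (.l 40) (.l 8)))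

theorem y8_z_ev : y8.eval y8_z_f = true := by decide +kernel

theorem y8_z {G : Type*} [Group G] {γ : ℕ → G} {k : ℕ} {N : List W} (g : Gf y8 γ k N)
    (e : tyB y8 k N y8_z_f = true := by decide +kernel) :
    ∀ x ∈ genW γ (y8.ws 0), x * γ 1 = γ 1 * x → x * (γ 1 * γ 2 * γ 3 * γ 4 * γ 5 * γ 6 * γ 7) = γ 1 * γ 2 * γ 3 * γ 4 * γ 5 * γ 6 * γ 7 * x → x = 1 ∨ x = γ 8 :=
  g.transfer e y8_z_ev

/-- a formula -/
def y8_f1_f : Fm := .all 1 40 [] (.imp (.one (.pow (.l 40) 3)) (.or (.one (.l 40)) (.or (.ex 1 41 [(.l 40, .mul (.l 6) (.l 7))] (.tt)) (.ex 1 41 [(.l 40, .mul (.mul (.mul (.mul (.mul (.mul (.mul (.l 8) (.l 1)) (.l 4)) (.l 3)) (.l 5)) (.l 4)) (.l 7)) (.mul (.mul (.mul (.mul (.mul (.mul (.mul (.mul (.l 8) (.l 1)) (.l 3)) (.l 5)) (.l 6)) (.l 5)) (.l 7)) (.l 6)) (.l 5)))] (.tt)))))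

theorem y8_f1_ev : y8.eval y8_f1_f = true := by decide +kernel

theorem y8_f1 {G : Type*} [Group G] {γ : ℕ → G} {k : ℕ} {N : List W} (g : Gf y8 γ k N)
    (e : tyB y8 k N y8_f1_f = true := by decide +kernel) :
    ∀ x ∈ genW γ (y8.ws 1), x ^ 3 = 1 → x = 1 ∨ (∃ k ∈ genW γ (y8.ws 1), k * x = γ 6 * γ 7 * k ∧ True) ∨ (∃ k ∈ genW γ (y8.ws 1), k * x = γ 8 * γ 1 * γ 4 * γ 3 * γ 5 * γ 4 * γ 7 * (γ 8 * γ 1 * γ 3 * γ 5 * γ 6 * γ 5 * γ 7 * γ 6 * γ 5) * k ∧ True) :=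
  g.transfer e y8_f1_ev

/-- a formula -/
def y8_f2_f : Fm := .all 1 40 [(.mul (.mul (.mul (.mul (.mul (.mul (.mul (.l 8) (.l 1)) (.l 4)) (.l 3)) (.l 5)) (.l 4)) (.l 7)) (.mul (.mul (.mul (.mul (.mul (.mul (.mul (.mul (.l 8) (.l 1)) (.l 3)) (.l 5)) (.l 6)) (.l 5)) (.l 7)) (.l 6)) (.l 5)), .inv (.mul (.mul (.mul (.mul (.mul (.mul (.mul (.l 8) (.l 1)) (.l 4)) (.l 3)) (.l 5)) (.l 4)) (.l 7)) (.mul (.mul (.mul (.mul (.mul (.mul (.mul (.mul (.l 8) (.l 1)) (.l 3)) (.l 5)) (.l 6)) (.l 5)) (.l 7)) (.l 6)) (.l 5))))] (.imp (.one (.mul (.l 40) (.l 40))) (.all 1 41 [(.mul (.mul (.mul (.mul (.mul (.mul (.mul (.l 8) (.l 1)) (.l 4)) (.l 3)) (.l 5)) (.l 4)) (.l 7)) (.mul (.mul (.mul (.mul (.mul (.mul (.mul (.mul (.l 8) (.l 1)) (.l 3)) (.l 5)) (.l 6)) (.l 5)) (.l 7)) (.l 6)) (.l 5)), .mul (.mul (.mul (.mul (.mul (.mul (.mul (.l 8) (.l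 1)) (.l 4)) (.l 3)) (.l 5)) (.l 4)) (.l 7)) (.mul (.mul (.mul (.mul (.mul (.mul (.mul (.mul (.l 8) (.l 1)) (.l 3)) (.l 5)) (.l 6)) (.l 5)) (.l 7)) (.l 6)) (.l 5))), (.l 40, .l 40)] (.imp (.one (.mul (.l 41) (.l 41))) (.all 1 42 [(.mul (.mul (.mul (.mul (.mul (.mul (.mul (.l 8) (.l 1)) (.l 4)) (.l 3)) (.l 5)) (.l 4)) (.l 7)) (.mul (.mul (.mul (.mul (.mul (.mul (.mul (.mul (.l 8) (.l 1)) (.l 3)) (.l 5)) (.l 6)) (.l 5)) (.l 7)) (.l 6)) (.l 5)), .mul (.mul (.mul (.mul (.mul (.mul (.mul (.l 8) (.l 1)) (.l 4)) (.l 3)) (.l 5)) (.l 4)) (.l 7)) (.mul (.mul (.mul (.mul (.mul (.mul (.mul (.mul (.l 8) (.l 1)) (.l 3)) (.l 5)) (.l 6)) (.l 5)) (.l 7)) (.l 6)) (.l 5))), (.l 40, .l 40)] (.imp (.one (.mul (.l 42) (.l 42))) (.imp (.one (.pow (.mul (.l 41) (.l 42)) 3)) (.imp (.not (.eq (.l 41) (.l 42))) (.all 1 43 [(.l 41, .l 41), (.mul (.l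 40) (.mul (.mul (.mul (.mul (.mul (.mul (.mul (.l 8) (.l 1)) (.l 4)) (.l 3)) (.l 5)) (.l 4)) (.l 7)) (.mul (.mul (.mul (.mul (.mul (.mul (.mul (.mul (.l 8) (.l 1)) (.l 3)) (.l 5)) (.l 6)) (.l 5)) (.l 7)) (.l 6)) (.l 5))), .mul (.l 40) (.mul (.mul (.mul (.mul (.mul (.mul (.mul (.l 8) (.l 1)) (.l 4)) (.l 3)) (.l 5)) (.l 4)) (.l 7)) (.mul (.mul (.mul (.mul (.mul (.mul (.mul (.mul (.l 8) (.l 1)) (.l 3)) (.l 5)) (.l 6)) (.l 5)) (.l 7)) (.l 6)) (.l 5))))] (.imp (.one (.mul (.l 43) (.l 43))) (.imp (.one (.pow (.mul (.l 42) (.l 43)) 3)) (.imp (.one (.pow (.mul (.l 43) (.l 40)) 3)) (.or (.ex 1 44 [(.l 41, .mul (.mul (.mul (.mul (.l 8) (.l 1)) (.l 3)) (.l 5)) (.l 7)), (.l 42, .mul (.mul (.mul (.mul (.mul (.mul (.mul (.mul (.mul (.mul (.mul (.mul (.l 8) (.l 1)) (.l 3)) (.l 5)) (.l 4)) (.l 3)) (.l 6)) (.l 5)) (.l 4)) (.l 3)) (.l 7))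 (.l 6)) (.l 5)), (.l 43, .mul (.mul (.mul (.mul (.mul (.mul (.l 8) (.l 1)) (.l 3)) (.l 6)) (.l 5)) (.l 7)) (.l 6)), (.l 40, .mul (.mul (.mul (.mul (.mul (.mul (.l 8) (.l 1)) (.l 4)) (.l 3)) (.l 5)) (.l 4)) (.l 7)), (.mul (.mul (.mul (.mul (.mul (.mul (.mul (.l 8) (.l 1)) (.l 4)) (.l 3)) (.l 5)) (.l 4)) (.l 7)) (.mul (.mul (.mul (.mul (.mul (.mul (.mul (.mul (.l 8) (.l 1)) (.l 3)) (.l 5)) (.l 6)) (.l 5)) (.l 7)) (.l 6)) (.l 5)), .mul (.mul (.mul (.mul (.mul (.mul (.mul (.l 8) (.l 1)) (.l 4)) (.l 3)) (.l 5)) (.l 4)) (.l 7)) (.mul (.mul (.mul (.mul (.mul (.mul (.mul (.mul (.l 8) (.l 1)) (.l 3)) (.l 5)) (.l 6)) (.l 5)) (.l 7)) (.l 6)) (.l 5)))] (.tt)) (.or (.or (.ex 0 44 [(.l 41, .mul (.l 8) (.l 1))] (.tt)) (.ex 0 44 [(.l 41, .mul (.mul (.mul (.l 8) (.l 3)) (.l 5)) (.l 7))] (.tt))) (.or (.or (.ex 0 44 [(.mul (.l 8) (.l 41),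 .mul (.l 8) (.l 1))] (.tt)) (.ex 0 44 [(.mul (.l 8) (.l 41), .mul (.mul (.mul (.l 8) (.l 3)) (.l 5)) (.l 7))] (.tt))) (.or (.ex 0 44 [(.mul (.l 1) (.l 41), .l 8)] (.tt)) (.or (.ex 0 44 [(.mul (.l 1) (.l 41), .mul (.l 1) (.l 3))] (.tt)) (.ex 0 44 [(.mul (.l 1) (.l 41), .mul (.mul (.l 3) (.l 5)) (.l 7))] (.tt))))))))))))))))))

theorem y8_f2_ev : y8.eval y8_f2_f = true := by decide +kernel

theorem y8_f2 {G : Type*} [Group G] {γ : ℕ → G} {k : ℕ} {N : List W} (g : Gf y8 γ k N)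
    (e : tyB y8 k N y8_f2_f = true := by decide +kernel) :
    ∀ p ∈ genW γ (y8.ws 1), p * (γ 8 * γ 1 * γ 4 * γ 3 * γ 5 * γ 4 * γ 7 * (γ 8 * γ 1 * γ 3 * γ 5 * γ 6 * γ 5 * γ 7 * γ 6 * γ 5)) = (γ 8 * γ 1 * γ 4 * γ 3 * γ 5 * γ 4 * γ 7 * (γ 8 * γ 1 * γ 3 * γ 5 * γ 6 * γ 5 * γ 7 * γ 6 * γ 5))⁻¹ * p → p * p = 1 → ∀ q ∈ genW γ (y8.ws 1), q * (γ 8 * γ 1 * γ 4 * γ 3 * γ 5 * γ 4 * γ 7 * (γ 8 * γ 1 * γ 3 * γ 5 * γ 6 * γ 5 * γ 7 * γ 6 * γ 5)) = γ 8 * γ 1 * γ 4 * γ 3 * γ 5 * γ 4 * γ 7 * (γ 8 * γ 1 * γ 3 * γ 5 * γ 6 * γ 5 * γ 7 * γ 6 * γ 5) * q → q * p = p * q → q * q = 1 → ∀ r ∈ genW γ (y8.ws 1), r * (γ 8 * γ 1 * γ 4 * γ 3 * γ 5 * γ 4 * γ 7 * (γ 8 * γ 1 * γ 3 * γ 5 * γ 6 * γ 5 * γ 7 * γ 6 * γ 5)) = γ 8 * γ 1 * γ 4 * γ 3 * γ 5 * γ 4 * γ 7 * (γ 8 * γ 1 * γ 3 * γ 5 * γ 6 * γ 5 * γ 7 * γ 6 * γ 5) * r → r * p = p * r → r * r = 1 → (q *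 r) ^ 3 = 1 → q ≠ r → ∀ s ∈ genW γ (y8.ws 1), s * q = q * s → s * (p * (γ 8 * γ 1 * γ 4 * γ 3 * γ 5 * γ 4 * γ 7 * (γ 8 * γ 1 * γ 3 * γ 5 * γ 6 * γ 5 * γ 7 * γ 6 * γ 5))) = p * (γ 8 * γ 1 * γ 4 * γ 3 * γ 5 * γ 4 * γ 7 * (γ 8 * γ 1 * γ 3 * γ 5 * γ 6 * γ 5 * γ 7 * γ 6 * γ 5)) * s → s * s = 1 → (r * s) ^ 3 = 1 → (s * p) ^ 3 = 1 → (∃ k ∈ genW γ (y8.ws 1), k * q = γ 8 * γ 1 * γ 3 * γ 5 * γ 7 * k ∧ k * r = γ 8 * γ 1 * γ 3 * γ 5 * γ 4 * γ 3 * γ 6 * γ 5 * γ 4 * γ 3 * γ 7 * γ 6 * γ 5 * k ∧ k * s = γ 8 * γ 1 * γ 3 * γ 6 * γ 5 * γ 7 * γ 6 * k ∧ k * p = γ 8 * γ 1 * γ 4 * γ 3 * γ 5 * γ 4 * γ 7 * k ∧ k * (γ 8 * γ 1 * γ 4 * γ 3 * γ 5 * γ 4 * γ 7 * (γ 8 * γ 1 * γ 3 * γ 5 * γ 6 * γ 5 * γ 7 * γ 6 * γ 5)) = γ 8 * γ 1 * γ 4 * γ 3 * γ 5 * γ 4 * γ 7 * (γ 8 * γ 1 * γ 3 * γ 5 * γ 6 * γ 5 * γ 7 * γ 6 * γ 5) * k ∧ True) ∨ ((∃ k ∈ genW γ (y8.ws 0),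 k * q = γ 8 * γ 1 * k ∧ True) ∨ (∃ k ∈ genW γ (y8.ws 0), k * q = γ 8 * γ 3 * γ 5 * γ 7 * k ∧ True)) ∨ ((∃ k ∈ genW γ (y8.ws 0), k * (γ 8 * q) = γ 8 * γ 1 * k ∧ True) ∨ (∃ k ∈ genW γ (y8.ws 0), k * (γ 8 * q) = γ 8 * γ 3 * γ 5 * γ 7 * k ∧ True)) ∨ (∃ k ∈ genW γ (y8.ws 0), k * (γ 1 * q) = γ 8 * k ∧ True) ∨ (∃ k ∈ genW γ (y8.ws 0), k * (γ 1 * q) = γ 1 * γ 3 * k ∧ True) ∨ (∃ k ∈ genW γ (y8.ws 0), k * (γ 1 * q) = γ 3 * γ 5 * γ 7 * k ∧ True) :=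
  g.transfer e y8_f2_ev

/-- a formula -/
def y8_f3_f : Fm := .all 0 40 [(.l 1, .l 3), (.l 3, .l 1), (.mul (.mul (.mul (.l 1) (.l 3)) (.l 5)) (.l 7), .mul (.mul (.mul (.l 1) (.l 3)) (.l 5)) (.l 7)), (.l 5, .l 5), (.mul (.mul (.mul (.mul (.mul (.mul (.mul (.l 1) (.l 3)) (.l 5)) (.l 6)) (.l 5)) (.l 7)) (.l 6)) (.l 5), .mul (.mul (.mul (.mul (.mul (.mul (.mul (.l 1) (.l 3)) (.l 5)) (.l 6)) (.l 5)) (.l 7)) (.l 6)) (.l 5))] (.imp (.one (.pow (.mul (.l 40) (.mul (.mul (.mul (.mul (.mul (.mul (.mul (.l 1) (.l 3)) (.l 4)) (.l 3)) (.l 5)) (.l 4)) (.l 3)) (.l 7))) 3)) (.or (.eq (.l 40) (.mul (.mul (.mul (.mul (.mul (.l 2) (.l 1)) (.l 3)) (.l 2)) (.l 5)) (.l 7))) (.eq (.l 40) (.mul (.mul (.mul (.mul (.mul (.mul (.mul (.l 2) (.l 1)) (.l 3)) (.l 2)) (.l 5)) (.l 7)) (.l 1)) (.l 3)))))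

theorem y8_f3_ev : y8.eval y8_f3_f = true := by decide +kernel

theorem y8_f3 {G : Type*} [Group G] {γ : ℕ → G} {k : ℕ} {N : List W} (g : Gf y8 γ k N)
    (e : tyB y8 k N y8_f3_f = true := by decide +kernel) :
    ∀ x ∈ genW γ (y8.ws 0), x * γ 1 = γ 3 * x → x * γ 3 = γ 1 * x → x * (γ 1 * γ 3 * γ 5 * γ 7) = γ 1 * γ 3 * γ 5 * γ 7 * x → x * γ 5 = γ 5 * x → x * (γ 1 * γ 3 * γ 5 * γ 6 * γ 5 * γ 7 * γ 6 * γ 5) = γ 1 * γ 3 * γ 5 * γ 6 * γ 5 * γ 7 * γ 6 * γ 5 * x → (x * (γ 1 * γ 3 * γ 4 * γ 3 * γ 5 * γ 4 * γ 3 * γ 7)) ^ 3 = 1 → x = γ 2 * γ 1 * γ 3 * γ 2 * γ 5 * γ 7 ∨ x = γ 2 * γ 1 * γ 3 * γ 2 * γ 5 * γ 7 * γ 1 * γ 3 :=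
  g.transfer e y8_f3_ev

end Cfsg.Lib.HN3
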